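/-
Odd degree extensions of fields with an involution.
-/
import Mathlib.FieldTheory.Finite.Trace
import Mathlib.RingTheory.Trace.Basic
import Cfsg.Agent.Lib.MaxSub.ExtSymp.Transvection

set_option autoImplicit false
set_option maxHeartbeats 400000
set_option linter.unusedSectionVars false
set_option linter.style.haveILetI false

namespace CfsgLib.MaxSub.ExtUnitary

open Module
open CfsgLib.MaxSub.ExtSymp (eq_zero_of_trace exists_trace_ne)

variable {F L : Type*} [Field F] [Fintype F] [Field L] [Algebra F L] [FiniteDimensional F L]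

/-- A field with an involution, extended to an extension of odd prime degree. -/
structure FD (q : ℕ) (σ : F →+* F) (τ : L →+* L) : Prop where
  card : Fintype.card F = q ^ 2
  σq : ∀ a, σ a = a ^ q
  τq : ∀ x, τ x = x ^ q ^ finrank F L
  prime : (finrank F L).Prime
  odd : Odd (finrank F L)

variable (F L) in
/-- The powers of the Frobenius map of the extension. -/
def phi (j : ℕ) : L →ₐ[F] L := (FiniteField.frobeniusAlgHom F L) ^ j

theorem phi_apply (j : ℕ) (x : L) : phi F L j x = x ^ Fintype.card F ^ j := by
  show ((FiniteField.frobeniusAlgHom F L) ^ j) x = _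
  rw [AlgHom.coe_pow, FiniteField.coe_frobeniusAlgHom, pow_iterate]

omit [FiniteDimensional F L] in
theorem phi_zero (x : L) : phi F L 0 x = x := rfl

theorem phi_phi (i j : ℕ) (x : L) : phi F L i (phi F L j x) = phi F L (i + j) x := by
  rw [phi_apply, phi_apply, phi_apply, ← pow_mul, ← pow_add, add_comm]

theorem phi_rank (x : L) : phi F L (finrank F L) x = x := by
  haveI : Finite L := Module.finite_of_finite F
  haveI : Fintype L := Fintype.ofFinite L
  rw [phi_apply, ← Module.card_eq_pow_finrank]
  exact FiniteField.pow_card x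

theorem phi_mul_rank (m : ℕ) (x : L) : phi F L (m * finrank F L) x = x := by
  induction m with
  | zero => rw [zero_mul, phi_zero]
  | succ m ih => rw [Nat.succ_mul, ← phi_phi, phi_rank, ih]

theorem phi_inj (j : ℕ) : Function.Injective (phi F L j) := (phi F L j).toRingHom.injective

theorem trace_sum (x : L) :
    algebraMap F L (Algebra.trace F L x) = ∑ i : Fin (finrank F L), phi F L i x := by
  haveI : Finite L := Module.finite_of_finite F
  rw [FiniteField.algebraMap_trace_eq_sum_pow, Finset.sum_range]
  exact Finset.sum_congr rfl fun i _ => by rw [phi_apply, Nat.card_eq_fintype_card]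

theorem trace_phi (j : ℕ) (x : L) : Algebra.trace F L (phi F L j x) = Algebra.trace F L x := by
  haveI : Finite L := Module.finite_of_finite F
  exact Algebra.trace_eq_of_algEquiv (AlgEquiv.ofBijective (phi F L j)
    ⟨phi_inj j, Finite.surjective_of_injective (phi_inj j)⟩) x

/-- Only the ground field is fixed by a non-trivial power. -/
theorem bot_of_fixed (hp : (finrank F L).Prime) {j : ℕ} (hj : ¬ finrank F L ∣ j) {x : L}
    (hx : phi F L j x = x) : x ∈ (⊥ : Subalgebra F L) := by
  haveI : Finite L := Module.finite_of_finite F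
  haveI := Subalgebra.isSimpleOrder_of_finrank_prime F L hp
  rcases eq_bot_or_eq_top (AlgHom.equalizer (phi F L j) (AlgHom.id F L)) with h | h
  · exact h ▸ (hx : x ∈ AlgHom.equalizer (phi F L j) (AlgHom.id F L))
  · exfalso
    refine hj ?_
    rw [← FiniteField.orderOf_frobeniusAlgHom F L]
    exact orderOf_dvd_of_pow_eq_one (AlgHom.ext fun y => (h ▸ Algebra.mem_top :
      y ∈ AlgHom.equalizer (phi F L j) (AlgHom.id F L)))

variable {q : ℕ} {σ : F →+* F} {τ : L →+* L}

section

variable (E : FD q σ τ)
include E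

theorem two_le_q : 2 ≤ q := by
  have h := Fintype.one_lt_card (α := F)
  rw [E.card] at h
  by_contra hc
  interval_cases q <;> simp at h

theorem σσ (a : F) : σ (σ a) = a := by
  rw [E.σq, E.σq, ← pow_mul, ← sq, ← E.card, FiniteField.pow_card]

theorem q_pow_add (m : ℕ) (a : F) : a ^ q ^ (2 * m + 1) = σ a := by
  induction m with
  | zero => rw [mul_zero, zero_add, pow_one, E.σq]
  | succ m ih =>
    rw [show 2 * (m + 1) + 1 = 2 + (2 * m + 1) by ring, pow_add, pow_mul, ← E.card,
      FiniteField.pow_card, ih]

theorem τ_base (a : F) : τ (algebraMap F L a) = algebraMap F L (σ a) := by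
  obtain ⟨m, hm⟩ := E.odd
  rw [E.τq, ← map_pow, hm, q_pow_add E]

theorem ττ (x : L) : τ (τ x) = x := by
  haveI : Finite L := Module.finite_of_finite F
  haveI : Fintype L := Fintype.ofFinite L
  rw [E.τq, E.τq, ← pow_mul, ← pow_add, ← two_mul, pow_mul, ← E.card, ← Module.card_eq_pow_finrank,
    FiniteField.pow_card]

theorem τ_phi (j : ℕ) (x : L) : τ (phi F L j x) = phi F L j (τ x) := by
  rw [phi_apply, phi_apply, map_pow]

theorem τ_smul (a : F) (x : L) : τ (a • x) = σ a • τ x := by
  rw [Algebra.smul_def, map_mul, τ_base E, ← Algebra.smul_def]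

theorem trace_τ (x : L) : Algebra.trace F L (τ x) = σ (Algebra.trace F L x) := by
  apply (algebraMap F L).injective
  rw [← τ_base E, trace_sum, trace_sum, map_sum]
  exact Finset.sum_congr rfl fun i _ => (τ_phi E i x).symm

theorem exists_moved : ∃ x : F, σ x ≠ x := by
  by_contra hid
  push Not at hid
  have hq : ∀ a : F, a ^ q = a := fun a => by rw [← E.σq, hid]
  classical
  have hlt := two_le_q E
  have hcard := Polynomial.card_le_degree_of_subset_roots (R := F)
    (p := Polynomial.X ^ q - Polynomial.X) (Z := Finset.univ) fun a _ => by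
      rw [Polynomial.mem_roots (FiniteField.X_pow_card_sub_X_ne_zero F hlt)]
      simp [hq a]
  rw [Finset.card_univ, E.card, FiniteField.X_pow_card_sub_X_natDegree_eq F hlt] at hcard
  nlinarith

theorem exists_skew_ne : ∃ c : F, c ≠ 0 ∧ c + σ c = 0 := by
  obtain ⟨x, hx⟩ := exists_moved E
  exact ⟨x - σ x, fun h => hx (sub_eq_zero.1 h).symm, by rw [map_sub, σσ E]; ring⟩

theorem exists_theta : ∃ θ : F, θ + σ θ = 1 := by
  obtain ⟨x, hx⟩ : ∃ x : F, x + σ x ≠ 0 := by
    by_contra hc
    push Not at hc
    obtain ⟨y, hy⟩ := exists_moved E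
    have h1 := hc 1
    rw [map_one] at h1
    exact hy (by linear_combination hc y - y * h1)
  refine ⟨x / (x + σ x), ?_⟩
  rw [map_div₀, map_add, σσ E, add_comm (σ x) x, ← add_div, div_self hx]

/-- Every skew element of the ground field is a difference. -/
theorem exists_diff {c : F} (hc : c + σ c = 0) : ∃ l : F, l - σ l = c := by
  obtain ⟨θ, hθ⟩ := exists_theta E
  exact ⟨θ * c, by rw [map_mul, show σ c = -c by linear_combination hc]; linear_combination c * hθ⟩

theorem eq_zero_of_σ {c : F} (h : ∀ z : F, z * c + σ (z * c) = 0) : c = 0 := by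
  obtain ⟨θ, hθ⟩ := exists_theta E
  rcases eq_or_ne c 0 with hc | hc
  · exact hc
  · exfalso
    have := h (θ / c)
    rw [div_mul_cancel₀ _ hc, hθ] at this
    exact one_ne_zero this

/-- Every element combines two fixed ones. -/
theorem exists_real_split (x : L) : ∃ (a b : F) (s t : L), τ s = s ∧ τ t = t ∧ x = a • s + b • t := by
  obtain ⟨θ, hθ⟩ := exists_theta E
  obtain ⟨c, hc0, hc⟩ := exists_skew_ne E
  have hcs : σ c = -c := by linear_combination hc
  refine ⟨θ, c⁻¹, x + τ x, c • (σ θ • x - θ • τ x), by rw [map_add, ττ E, add_comm], ?_, ?_⟩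
  · rw [τ_smul E, hcs, map_sub, τ_smul E, τ_smul E, σσ E, ττ E]
    module
  · rw [smul_smul, inv_mul_cancel₀ hc0, one_smul, smul_add]
    calc x = (θ + σ θ) • x := by rw [hθ, one_smul]
      _ = θ • x + θ • τ x + (σ θ • x - θ • τ x) := by module

/-- A skew element of non-zero value. -/
theorem exists_skew_unit : ∃ a : L, a ≠ 0 ∧ a + τ a = 0 := by
  obtain ⟨c, hc0, hc⟩ := exists_skew_ne E
  exact ⟨algebraMap F L c, (map_ne_zero _).2 hc0, by rw [τ_base E, ← map_add, hc, map_zero]⟩

/-- The fixed elements span. -/
theorem span_real : Submodule.span F {x : L | τ x = x} = ⊤ := eq_top_iff.2 fun x _ => by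
  obtain ⟨a, b, s, t, hs, ht, rfl⟩ := exists_real_split E x
  exact add_mem (Submodule.smul_mem _ a (Submodule.subset_span hs))
    (Submodule.smul_mem _ b (Submodule.subset_span ht))

end

end CfsgLib.MaxSub.ExtUnitary
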