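/-
Overgroups of a unitary group over an extension field: basic notions.
-/
import Cfsg.Agent.Lib.MaxSub.ExtUnitary.Field
import Cfsg.Agent.Lib.MaxSub.ExtLin.Basic
import Cfsg.Agent.Lib.Aschbacher.UnitaryForm

set_option autoImplicit false
set_option maxHeartbeats 400000
set_option linter.unusedSectionVars false
set_option linter.style.haveILetI false

namespace CfsgLib.MaxSub.ExtUnitary

open Module
open CfsgLib.MaxSub.ExtLin (Lin mem_lin_iff finrank_lin)
open CfsgLib.MaxSub.ExtSymp (eq_zero_of_trace)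

variable {F L V : Type*} [Field F] [Fintype F] [Field L] [Algebra F L] [FiniteDimensional F L]
  [AddCommGroup V] [Module F V] [Module L V] [IsScalarTower F L V] [FiniteDimensional F V]

/-- An overgroup of the unitary group of `β` inside that of the trace form. -/
structure EU (q : ℕ) (σ : F →+* F) (τ : L →+* L) (β : V →ₗ[L] V →ₛₗ[τ] L) (μ : L)
    (G : Subgroup (V ≃ₗ[F] V)) : Prop where
  fd : FD q σ τ
  small : finrank F L ≤ 5
  herm : ∀ x y, τ (β x y) = β y x
  nd : ∀ x, (∀ y, β x y = 0) → x = 0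
  two : 2 ≤ finrank L V
  tv : ∀ (a : L) (d : V), β d d = 0 → a + τ a = 0 → ∃ g ∈ G, ∀ y, g y = y + (a * β y d) • d
  sieg : ∀ (e w : V) (c : L), β e e = 0 → β w e = 0 → c + τ c + β w w = 0 →
    ∃ g ∈ G, ∀ y, g y = y + β y e • w - β y w • e + (c * β y e) • e
  twist : ∀ e, e ≠ 0 → β e e = 0 → ∃ g ∈ G, ∀ k : L, g (k • e) = (μ * k) • e
  μ_norm : μ * τ μ = 1
  μ_gen : μ * μ ∉ (⊥ : Subalgebra F L)
  iso : ∀ g ∈ G, ∀ x y, Algebra.trace F L (β (g x) (g y)) = Algebra.trace F L (β x y)
  nospread : ∃ g ∈ G, ∃ (k : L) (v : V), g (k • v) ∉ L ∙ g v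

variable {q : ℕ} {σ : F →+* F} {τ : L →+* L} {β : V →ₗ[L] V →ₛₗ[τ] L} {μ : L}
  {G : Subgroup (V ≃ₗ[F] V)}

/-- Images of isotropic lines. -/
def IsMem (β : V →ₗ[L] V →ₛₗ[τ] L) (G : Subgroup (V ≃ₗ[F] V)) (M : Submodule F V) : Prop :=
  ∃ g ∈ G, ∃ v : V, v ≠ 0 ∧ β v v = 0 ∧ M = (Lin F L v).map g.toLinearMap

/-- A member and a different isotropic line. -/
structure Meet (F : Type*) {L V : Type*} [Field F] [Field L] [Algebra F L] [AddCommGroup V]
    [Module F V] [Module L V] [IsScalarTower F L V] {τ : L →+* L} (β : V →ₗ[L] V →ₛₗ[τ] L)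
    (G : Subgroup (V ≃ₗ[F] V)) (M : Submodule F V) (e : V) : Prop where
  mem : IsMem β G M
  ne0 : e ≠ 0
  sing : β e e = 0
  ne : M ≠ Lin F L e

section

variable (O : EU q σ τ β μ G)
include O

theorem finite_V : Module.Finite L V := Module.Finite.right F L V

theorem β_smul_right (x : V) (a : L) (y : V) : β x (a • y) = τ a * β x y := by
  rw [map_smulₛₗ, smul_eq_mul]

theorem β_smul_left (a : L) (x y : V) : β (a • x) y = a * β x y := by
  rw [map_smul, LinearMap.smul_apply, smul_eq_mul]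

theorem β_zero {x y : V} (h : β x y = 0) : β y x = 0 := by rw [← O.herm, h, map_zero]

theorem self_fixed (x : V) : τ (β x x) = β x x := O.herm x x

theorem mem_lin_self (v : V) : v ∈ Lin F L v := mem_lin_iff.2 ⟨1, one_smul _ _⟩

theorem exists_repr (φ : Dual L V) : ∃ a, ∀ y, β y a = φ y := by
  haveI := finite_V O
  haveI : Finite L := Module.finite_of_finite F
  haveI : Finite V := Module.finite_of_finite F
  haveI : Finite (Dual L V) := Module.finite_of_finite L
  have hinj : Function.Injective (β.flip) := fun a b hab => sub_eq_zero.1 (O.nd _ fun y =>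
    β_zero O (by
      rw [map_sub, sub_eq_zero]
      exact LinearMap.congr_fun hab y))
  have hcard : Nat.card V = Nat.card (Dual L V) := by
    rw [Module.natCard_eq_pow_finrank (K := L) (V := V),
      Module.natCard_eq_pow_finrank (K := L) (V := Dual L V), Subspace.dual_finrank_eq]
  obtain ⟨a, ha⟩ := ((Nat.bijective_iff_injective_and_card _).2 ⟨hinj, hcard⟩).2 φ
  exact ⟨a, fun y => LinearMap.congr_fun ha y⟩

theorem exists_sep {e w : V} (hw : w ∉ L ∙ e) (k : L) : ∃ a, β e a = 0 ∧ β w a = k := by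
  haveI := finite_V O
  obtain ⟨φ, hφ, hP⟩ := Submodule.exists_dual_map_eq_bot_of_notMem hw inferInstance
  obtain ⟨a, ha⟩ := exists_repr O ((k / φ w) • φ)
  refine ⟨a, ?_, ?_⟩
  · have : φ e = 0 := (Submodule.mem_bot L).1
      (hP ▸ Submodule.mem_map_of_mem (Submodule.mem_span_singleton_self e))
    rw [ha, LinearMap.smul_apply, this, smul_zero]
  · rw [ha, LinearMap.smul_apply, smul_eq_mul, div_mul_cancel₀ _ hφ]

theorem exists_partner {x : V} (hx : x ≠ 0) (k : L) : ∃ a, β x a = k := by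
  obtain ⟨a, -, ha⟩ := exists_sep O (e := (0 : V)) (w := x) (by
    rwa [Submodule.span_zero_singleton, Submodule.mem_bot]) k
  exact ⟨a, ha⟩

theorem exists_real_half {x : L} (hx : τ x = x) : ∃ c : L, c + τ c + x = 0 := by
  obtain ⟨θ, hθ⟩ := exists_theta O.fd
  refine ⟨-(θ • x), ?_⟩
  rw [map_neg, τ_smul O.fd, hx]
  calc -(θ • x) + -(σ θ • x) + x = (1 - (θ + σ θ)) • x := by module
    _ = 0 := by rw [hθ, sub_self, zero_smul]

theorem add_iso {y e : V} (he : β e e = 0) (hye : β y e ≠ 0) : ∃ c : L, β (y + c • e) (y + c • e) = 0 := by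
  obtain ⟨c, hc⟩ := exists_real_half O (self_fixed O y)
  refine ⟨c / β e y, ?_⟩
  have hey : β e y ≠ 0 := fun h => hye (β_zero O h)
  simp only [map_add, LinearMap.add_apply, β_smul_left O, β_smul_right O, he, mul_zero, add_zero,
    map_div₀, O.herm, div_mul_cancel₀ _ hye, div_mul_cancel₀ _ hey]
  linear_combination hc

theorem exists_opp {e : V} (he0 : e ≠ 0) (he : β e e = 0) : ∃ f, β f f = 0 ∧ β e f = 1 := by
  obtain ⟨a, ha⟩ := exists_partner O he0 1
  obtain ⟨c, hc⟩ := add_iso O (y := a) he (fun h => one_ne_zero (ha.symm.trans (β_zero O h)))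
  exact ⟨_, hc, by rw [map_add, β_smul_right O, he, mul_zero, add_zero, ha]⟩

theorem exists_iso : ∃ e : V, e ≠ 0 ∧ β e e = 0 := by
  haveI := finite_V O
  haveI : Nontrivial V := Module.nontrivial_of_finrank_pos (R := L) (by have := O.two; omega)
  obtain ⟨x, hx⟩ := exists_ne (0 : V)
  by_cases hxx : β x x = 0
  · exact ⟨x, hx, hxx⟩
  obtain ⟨w, hw⟩ : ∃ w, w ∉ L ∙ x := by
    by_contra hc
    push Not at hc
    have h := finrank_span_singleton (K := L) hx
    rw [show (L ∙ x) = ⊤ from eq_top_iff.2 fun y _ => hc y, finrank_top] at h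
    have := O.two
    omega
  set z := w - (β w x / β x x) • x with hz
  have hzx : β z x = 0 := by
    rw [hz, map_sub, LinearMap.sub_apply, β_smul_left O, div_mul_cancel₀ _ hxx, sub_self]
  have hz0 : z ≠ 0 := fun h =>
    hw (Submodule.mem_span_singleton.2 ⟨β w x / β x x, (sub_eq_zero.1 h).symm⟩)
  by_cases hzz : β z z = 0
  · exact ⟨z, hz0, hzz⟩
  -- a norm equation
  haveI : Finite L := Module.finite_of_finite F
  haveI : Fintype L := Fintype.ofFinite L
  obtain ⟨a, ha⟩ : ∃ a : L, a * τ a = -(β z z / β x x) := by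
    have hc : τ (-(β z z / β x x)) = -(β z z / β x x) := by
      rw [map_neg, map_div₀, self_fixed O, self_fixed O]
    have hc0 : -(β z z / β x x) ≠ 0 := neg_ne_zero.2 (div_ne_zero hzz hxx)
    have hqL : Fintype.card L = (q ^ finrank F L) ^ 2 := by
      rw [Module.card_eq_pow_finrank (K := F) (V := L), O.fd.card, ← pow_mul, ← pow_mul, mul_comm]
    obtain ⟨y, hy⟩ := CfsgLib.Aschbacher.exists_mul_conj_eq hqL hc0 (by rw [← O.fd.τq, hc])
    exact ⟨y, by rw [O.fd.τq, hy.2]⟩
  refine ⟨z + a • x, fun h => hxx ?_, ?_⟩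
  · have h1 := congrArg (fun v => β v x) h
    simp only [map_add, LinearMap.add_apply, β_smul_left O, hzx, zero_add, map_zero,
      LinearMap.zero_apply] at h1
    rcases mul_eq_zero.1 h1 with h2 | h2
    · exact absurd (by rw [h2, zero_smul, add_zero] at h; exact h) hz0
    · exact h2
  · simp only [map_add, LinearMap.add_apply, β_smul_left O, β_smul_right O, hzx, β_zero O hzx,
      mul_zero, add_zero, zero_add]
    rw [show a * (τ a * β x x) = (a * τ a) * β x x by ring, ha, neg_mul, div_mul_cancel₀ _ hxx,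
      add_neg_cancel]

theorem trace_swap (x y : V) : σ (Algebra.trace F L (β x y)) = Algebra.trace F L (β y x) := by
  rw [← trace_τ O.fd, O.herm]

theorem beta_lin {e : V} (he : β e e = 0) {x y : V} (hx : x ∈ Lin F L e) (hy : y ∈ Lin F L e) :
    β x y = 0 := by
  obtain ⟨a, rfl⟩ := mem_lin_iff.1 hx
  obtain ⟨b, rfl⟩ := mem_lin_iff.1 hy
  rw [β_smul_left O, β_smul_right O, he, mul_zero, mul_zero]

theorem mem_ti {M : Submodule F V} (h : IsMem β G M) :
    ∀ x ∈ M, ∀ y ∈ M, Algebra.trace F L (β x y) = 0 := by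
  obtain ⟨g, hg, v, -, hv, rfl⟩ := h
  rintro _ ⟨x, hx, rfl⟩ _ ⟨y, hy, rfl⟩
  show Algebra.trace F L (β (g x) (g y)) = 0
  rw [O.iso g hg, beta_lin O hv hx hy, map_zero]

theorem mem_finrank {M : Submodule F V} (h : IsMem β G M) : finrank F M = finrank F L := by
  obtain ⟨g, -, v, hv0, -, rfl⟩ := h
  rw [LinearEquiv.finrank_map_eq, finrank_lin hv0]

theorem mem_map {M : Submodule F V} (h : IsMem β G M) {g : V ≃ₗ[F] V} (hg : g ∈ G) :
    IsMem β G (M.map g.toLinearMap) := by
  obtain ⟨g', hg', v, hv0, hv, rfl⟩ := h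
  exact ⟨g * g', mul_mem hg hg', v, hv0, hv, by rw [← Submodule.map_comp]; rfl⟩

theorem mem_of_lin {e : V} (he0 : e ≠ 0) (he : β e e = 0) : IsMem β G (Lin F L e) :=
  ⟨1, one_mem G, e, he0, he, (Submodule.map_id _).symm⟩

theorem map_symm {g : V ≃ₗ[F] V} (U : Submodule F V) :
    (U.map g.toLinearMap).map (g⁻¹).toLinearMap = U := by
  rw [← Submodule.map_comp,
    show (g⁻¹ : V ≃ₗ[F] V).toLinearMap ∘ₗ g.toLinearMap = LinearMap.id from
      LinearMap.ext fun v => g.symm_apply_apply v, Submodule.map_id]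

/-- Two members give a member and a line meeting in the same dimension. -/
theorem meet_of_members {M N : Submodule F V} (hM : IsMem β G M) (hN : IsMem β G N) (hne : M ≠ N) :
    ∃ M' e, Meet F β G M' e ∧
      finrank F (M' ⊓ Lin F L e : Submodule F V) = finrank F (M ⊓ N : Submodule F V) := by
  obtain ⟨g, hg, v, hv0, hv, rfl⟩ := hN
  refine ⟨M.map (g⁻¹).toLinearMap, v, ⟨mem_map O hM (inv_mem hg), hv0, hv, fun h => hne ?_⟩, ?_⟩
  · apply Submodule.map_injective_of_injective (f := (g⁻¹).toLinearMap) (g⁻¹).injective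
    rw [map_symm O, h]
  · conv_lhs => rw [← map_symm O (g := g) (Lin F L v)]
    rw [← Submodule.map_inf _ (g⁻¹).injective, LinearEquiv.finrank_map_eq]

/-- The real multipliers of an isotropic line. -/
theorem torus {e : V} (he0 : e ≠ 0) (he : β e e = 0) {x : L} (hx : τ x = x) (hx0 : x ≠ 0) :
    ∃ g ∈ G, ∀ k : L, g (k • e) = (x * k) • e := by
  obtain ⟨f, hf, hef⟩ := exists_opp O he0 he
  have hfe : β f e = 1 := by rw [← O.herm, hef, map_one]
  obtain ⟨a₀, ha₀0, ha₀⟩ := exists_skew_unit O.fd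
  have key : ∀ a : L, a ≠ 0 → a + τ a = 0 → ∃ g ∈ G, ∀ k : L,
      g (k • e) = (k * -a⁻¹) • f ∧ g (k • f) = (k * a) • e := by
    intro a ha0 ha
    obtain ⟨u, hu, huy⟩ := O.tv a e he ha
    obtain ⟨l, hl, hly⟩ := O.tv (-a⁻¹) f hf (by
      rw [map_neg, map_inv₀, show τ a = -a by linear_combination ha, inv_neg, neg_neg, neg_add_cancel])
    refine ⟨u * l * u, mul_mem (mul_mem hu hl) hu, fun k => ⟨?_, ?_⟩⟩
    · show u (l (u (k • e))) = _
      simp only [huy, hly, map_add, LinearMap.add_apply, β_smul_left O, he, hf, hef, hfe, mul_zero,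
        zero_smul, add_zero, zero_add, mul_one]
      rw [show a * (-a⁻¹ * k) = -k by field_simp]
      module
    · show u (l (u (k • f))) = _
      simp only [huy, hly, map_add, LinearMap.add_apply, β_smul_left O, he, hf, hef, hfe, mul_zero,
        zero_smul, add_zero, zero_add, mul_one]
      rw [show -a⁻¹ * (a * k) = -k by field_simp]
      simp only [neg_smul, add_neg_cancel, add_neg_cancel_right, map_neg, LinearMap.neg_apply,
        β_smul_left O, hfe, mul_one, mul_zero, he, zero_smul, add_zero, zero_add]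
      module
  obtain ⟨g₁, hg₁, h₁⟩ := key (-(a₀ / x)) (neg_ne_zero.2 (div_ne_zero ha₀0 hx0))
    (by rw [map_neg, map_div₀, hx, show τ a₀ = -a₀ by linear_combination ha₀]; ring)
  obtain ⟨g₀, hg₀, h₀⟩ := key a₀ ha₀0 ha₀
  refine ⟨g₀ * g₁, mul_mem hg₀ hg₁, fun k => ?_⟩
  show g₀ (g₁ (k • e)) = _
  rw [(h₁ k).1, (h₀ _).2]
  congr 1
  field_simp

theorem line_step {e e' : V} (he : β e e = 0) (he' : β e' e' = 0) (h : β e e' ≠ 0) :
    ∃ g ∈ G, ∃ c : L, c ≠ 0 ∧ ∀ k : L, g (k • e) = (k * c) • e' := by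
  obtain ⟨z, hz0, hz⟩ := exists_skew_unit O.fd
  have hh : β e' e ≠ 0 := fun hh => h (β_zero O hh)
  -- scale the target
  set c := z / β e' e with hc
  have hc0 : c ≠ 0 := div_ne_zero hz0 hh
  have hce : β (c • e') e = z := by rw [β_smul_left O, hc, div_mul_cancel₀ _ hh]
  have hec : β e (c • e') = -z := by rw [← O.herm, hce]; linear_combination hz
  have hcc : β (c • e') (c • e') = 0 := by rw [β_smul_left O, β_smul_right O, he', mul_zero, mul_zero]
  have hd : β (c • e' - e) (c • e' - e) = 0 := by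
    simp only [map_sub, LinearMap.sub_apply, hcc, hce, hec, he]
    ring
  obtain ⟨g, hg, hgy⟩ := O.tv (-z⁻¹) (c • e' - e) hd (by
    rw [map_neg, map_inv₀, show τ z = -z by linear_combination hz, inv_neg, neg_neg, neg_add_cancel])
  refine ⟨g, hg, c, hc0, fun k => ?_⟩
  rw [hgy, β_smul_left O, map_sub, hec, he, sub_zero,
    show -z⁻¹ * (k * -z) = k by field_simp, mul_smul, smul_sub]
  abel

/-- Isotropic lines are conjugate. -/
theorem line_move {e e' : V} (he0 : e ≠ 0) (he : β e e = 0) (he'0 : e' ≠ 0) (he' : β e' e' = 0) :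
    ∃ g ∈ G, ∃ c : L, c ≠ 0 ∧ ∀ k : L, g (k • e) = (k * c) • e' := by
  by_cases h : β e e' = 0
  · obtain ⟨x, hx, hxe, hxe'⟩ : ∃ x, β x x = 0 ∧ β e x ≠ 0 ∧ β e' x ≠ 0 := by
      obtain ⟨y, hy, hy'⟩ : ∃ y, β e y ≠ 0 ∧ β e' y ≠ 0 := by
        obtain ⟨a, ha⟩ := exists_partner O he0 1
        obtain ⟨b, hb⟩ := exists_partner O he'0 1
        by_cases h1 : β e' a = 0
        · by_cases h2 : β e b = 0
          · exact ⟨a + b, by simp [map_add, ha, h2], by simp [map_add, hb, h1]⟩
          · exact ⟨b, h2, by rw [hb]; exact one_ne_zero⟩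
        · exact ⟨a, by rw [ha]; exact one_ne_zero, h1⟩
      obtain ⟨c, hc⟩ := add_iso O he (y := y) fun h' => hy (β_zero O h')
      exact ⟨_, hc, by rwa [map_add, β_smul_right O, he, mul_zero, add_zero],
        by rwa [map_add, β_smul_right O, β_zero O h, mul_zero, add_zero]⟩
    obtain ⟨g₁, hg₁, c₁, hc₁, h₁⟩ := line_step O he hx hxe
    obtain ⟨g₂, hg₂, c₂, hc₂, h₂⟩ := line_step O hx he' fun h' => hxe' (β_zero O h')
    refine ⟨g₂ * g₁, mul_mem hg₂ hg₁, c₁ * c₂, mul_ne_zero hc₁ hc₂, fun k => ?_⟩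
    show g₂ (g₁ (k • e)) = _
    rw [h₁, h₂, mul_assoc]
  · exact line_step O he he' h

/-- Some member is not a line. -/
theorem exists_nonline : ∃ M : Submodule F V, IsMem β G M ∧ ∀ v : V, v ≠ 0 → M ≠ Lin F L v := by
  haveI := finite_V O
  by_contra hno
  push Not at hno
  obtain ⟨g, hg, k₀, v₀, hbad⟩ := O.nospread
  have hline : ∀ (e : V), e ≠ 0 → β e e = 0 → ∀ k : L, ∃ c : L, g (k • e) = c • g e := by
    intro e he0 he k
    obtain ⟨w, hw0, hw⟩ := hno _ ⟨g, hg, e, he0, he, rfl⟩
    obtain ⟨a, ha⟩ := mem_lin_iff.1 (hw ▸ ⟨_, mem_lin_self O e, rfl⟩ : g e ∈ Lin F L w)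
    obtain ⟨b, hb⟩ := mem_lin_iff.1 (hw ▸ ⟨_, mem_lin_iff.2 ⟨k, rfl⟩, rfl⟩ : g (k • e) ∈ Lin F L w)
    have ha0 : a ≠ 0 := fun h => he0 (g.map_eq_zero_iff.1 (by rw [← ha, h, zero_smul]))
    exact ⟨b / a, by rw [← ha, ← hb, smul_smul, div_mul_cancel₀ _ ha0]⟩
  obtain ⟨a₀, ha₀0, ha₀⟩ := exists_skew_unit O.fd
  have hinv : a₀⁻¹ + τ a₀⁻¹ = 0 := by
    rw [map_inv₀, show τ a₀ = -a₀ by linear_combination ha₀, inv_neg, add_neg_cancel]
  have hpair : ∀ e f : V, β e e = 0 → β f f = 0 → β e f = 1 → ∃ θ : L → L,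
      (∀ k, g (k • e) = θ k • g e) ∧ (∀ k, g (k • f) = θ k • g f) ∧ ∀ k l, θ (k * l) = θ k * θ l := by
    intro e f he hf hef
    have hfe : β f e = 1 := by rw [← O.herm, hef, map_one]
    have he0 : e ≠ 0 := fun h => one_ne_zero (hef.symm.trans (by rw [h, map_zero, LinearMap.zero_apply]))
    have hf0 : f ≠ 0 := fun h => one_ne_zero (hef.symm.trans (by rw [h, map_zero]))
    choose θ hθ using hline e he0 he
    choose η hη using hline f hf0 hf
    have hge : g e ≠ 0 := fun h => he0 (g.map_eq_zero_iff.1 h)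
    have hgf : g f ∉ L ∙ g e := by
      intro h
      obtain ⟨c, hc⟩ := Submodule.mem_span_singleton.1 h
      have hsub : ((L ∙ e) ⊔ (L ∙ f)).restrictScalars F ≤ (Lin F L (g e)).comap g.toLinearMap := by
        intro y hy
        obtain ⟨y1, hy1, y2, hy2, rfl⟩ := Submodule.mem_sup.1 hy
        obtain ⟨a, rfl⟩ := Submodule.mem_span_singleton.1 hy1
        obtain ⟨b, rfl⟩ := Submodule.mem_span_singleton.1 hy2
        refine (mem_lin_iff (F := F)).2 ⟨θ a + η b * c, ?_⟩
        show _ = g (a • e + b • f)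
        rw [map_add, hθ, hη, ← hc, add_smul, mul_smul]
      have h1 := Submodule.finrank_mono hsub
      have h3 : Lin F L e < ((L ∙ e) ⊔ (L ∙ f)).restrictScalars F := by
        refine lt_of_le_of_ne (fun y hy => Submodule.mem_sup_left hy) fun heq => ?_
        have hfm : f ∈ Lin F L e := heq ▸ (Submodule.mem_sup_right (Submodule.mem_span_singleton_self f))
        exact one_ne_zero (hfe.symm.trans (beta_lin O he hfm (mem_lin_self O e)))
      have h4 := Submodule.finrank_lt_finrank_of_lt h3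
      rw [Submodule.comap_equiv_eq_map_symm, LinearEquiv.finrank_map_eq, finrank_lin hge] at h1
      rw [finrank_lin he0] at h4
      omega
    have huniq : ∀ a b a' b' : L, a • g e + b • g f = a' • g e + b' • g f → a = a' ∧ b = b' := by
      intro a b a' b' h
      have hb : b = b' := by
        by_contra hne
        refine hgf (Submodule.mem_span_singleton.2 ⟨(a' - a) / (b - b'), ?_⟩)
        apply smul_right_injective V (sub_ne_zero.2 hne)
        show (b - b') • _ = (b - b') • g f
        rw [smul_smul, mul_div_cancel₀ _ (sub_ne_zero.2 hne), sub_smul, sub_smul]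
        rw [sub_eq_sub_iff_add_eq_add, ← h]
        abel
      subst hb
      exact ⟨smul_left_injective L hge (add_right_cancel h), rfl⟩
    have hmix : ∀ (a : L), a + τ a = 0 → ∀ k, η (k * a) = θ k * η a := by
      intro a ha k
      have hiso : β (e + a • f) (e + a • f) = 0 := by
        simp only [map_add, LinearMap.add_apply, β_smul_left O, β_smul_right O, he, hf, hef, hfe,
          mul_zero, mul_one, add_zero, zero_add]
        linear_combination ha
      have hne : e + a • f ≠ 0 := fun h => by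
        have h1 := congrArg (fun v => β v f) h
        simp only [map_add, LinearMap.add_apply, β_smul_left O, hef, hf, mul_zero, add_zero, map_zero,
          LinearMap.zero_apply] at h1
        exact one_ne_zero h1
      obtain ⟨c, hc⟩ := hline _ hne hiso k
      rw [smul_add, map_add, map_add, smul_smul, hθ, hη, hη a, smul_add, smul_smul] at hc
      obtain ⟨h1, h2⟩ := huniq _ _ _ _ hc
      rw [h2, h1]
    have hlin : ∀ (k : F) (x y : L), θ (k • x + y) = k • θ x + θ y := fun k x y => by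
      apply smul_left_injective L hge
      show _ • g e = _ • g e
      rw [add_smul, smul_assoc k (θ x) (g e), ← hθ, ← hθ, ← hθ, add_smul, map_add, smul_assoc k x e, map_smul]
    have hθ1 : θ 1 = 1 := smul_left_injective L hge (by
      show _ • g e = _ • g e
      rw [← hθ, one_smul, one_smul])
    have hη1 : η 1 = 1 := by
      have hgf0 : g f ≠ 0 := fun h => hf0 (g.map_eq_zero_iff.1 h)
      exact smul_left_injective L hgf0 (by
        show _ • g f = _ • g f
        rw [← hη, one_smul, one_smul])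
    have hx : ∀ x, η x = θ (x / a₀) * η a₀ := fun x => by
      rw [← hmix a₀ ha₀, div_mul_cancel₀ _ ha₀0]
    have hηa : η a₀ ≠ 0 := fun h => by
      have := hx 1
      rw [hη1, h, mul_zero] at this
      exact one_ne_zero this
    have hmul : ∀ b : L, τ b = b → ∀ k, θ (k * b) = θ k * θ b := fun b hb k => by
      have hab : b * a₀ + τ (b * a₀) = 0 := by
        rw [map_mul, hb, ← mul_add, ha₀, mul_zero]
      have h1 := hmix _ hab k
      rw [hx, hx (b * a₀), ← mul_assoc, mul_div_assoc, mul_div_assoc, div_self ha₀0, mul_one, mul_one,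
        ← mul_assoc] at h1
      exact mul_right_cancel₀ hηa h1
    have hall : ∀ k l, θ (k * l) = θ k * θ l := by
      intro k l
      obtain ⟨a, b, s, t, hs, ht, rfl⟩ := exists_real_split O.fd l
      rw [mul_add, Algebra.mul_smul_comm, Algebra.mul_smul_comm, hlin]
      conv_rhs => rw [hlin]
      have e1 : θ (b • (k * t)) = b • θ (k * t) := by
        have := hlin b (k * t) 0
        have h0 : θ 0 = 0 := smul_left_injective L hge (by
          show _ • g e = _ • g e
          rw [← hθ, zero_smul, zero_smul, map_zero])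
        simpa [h0] using this
      have e2 : θ (b • t) = b • θ t := by
        have := hlin b t 0
        have h0 : θ 0 = 0 := smul_left_injective L hge (by
          show _ • g e = _ • g e
          rw [← hθ, zero_smul, zero_smul, map_zero])
        simpa [h0] using this
      rw [e1, e2, hmul s hs, hmul t ht, mul_add, Algebra.mul_smul_comm, Algebra.mul_smul_comm]
    refine ⟨θ, hθ, fun k => ?_, hall⟩
    rw [hη]
    congr 1
    have h1 := hmix _ ha₀ k
    have h2 := hx k
    rw [div_eq_mul_inv, hall] at h2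
    have h3 := hx 1
    rw [hη1, one_div] at h3
    rw [h2, mul_assoc, ← h3, mul_one]
  -- all isotropic vectors are alike
  obtain ⟨e, he0, he⟩ := exists_iso O
  obtain ⟨f, hf, hef⟩ := exists_opp O he0 he
  obtain ⟨θ, hθe, hθf, hθmul⟩ := hpair e f he hf hef
  let W : Submodule L V :=
    { carrier := {v | ∀ k, g (k • v) = θ k • g v}
      zero_mem' := fun k => by simp
      add_mem' := fun {a b} ha hb k => by rw [smul_add, map_add, ha k, hb k, map_add, smul_add]
      smul_mem' := fun l v hv k => by rw [smul_smul, hv, hθmul, mul_smul, ← hv l] }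
  have hother : ∀ e₁, e₁ ∈ W → e₁ ≠ 0 → β e₁ e₁ = 0 → ∀ x, β x x = 0 → β e₁ x ≠ 0 → x ∈ W := by
    intro e₁ he₁W he₁0 he₁ x hx hxe
    set x' := (τ (β e₁ x))⁻¹ • x with hx'
    have hx'x' : β x' x' = 0 := by rw [hx', β_smul_left O, β_smul_right O, hx, mul_zero, mul_zero]
    have hex' : β e₁ x' = 1 := by
      rw [hx', β_smul_right O, map_inv₀, ττ O.fd, inv_mul_cancel₀ hxe]
    obtain ⟨θ', h1, h2, -⟩ := hpair e₁ x' he₁ hx'x' hex'
    have hge : g e₁ ≠ 0 := fun h => he₁0 (g.map_eq_zero_iff.1 h)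
    have : θ' = θ := funext fun k => smul_left_injective L hge ((h1 k).symm.trans (he₁W k))
    subst this
    have hx'W : x' ∈ W := h2
    have : x = τ (β e₁ x) • x' := by
      rw [hx', smul_smul, mul_inv_cancel₀ (fun h => hxe ((map_eq_zero τ).1 h)), one_smul]
    rw [this]
    exact W.smul_mem _ hx'W
  have heW : e ∈ W := hθe
  have hfW : f ∈ W := hθf
  have hfe : β f e = 1 := by rw [← O.herm, hef, map_one]
  have hiso : ∀ x, β x x = 0 → x ∈ W := by
    intro x hx
    by_cases h1 : β e x = 0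
    · by_cases h2 : β f x = 0
      · have h3 : e + x ∈ W := hother f hfW (fun h => one_ne_zero (hfe.symm.trans (by
            rw [h, map_zero, LinearMap.zero_apply]))) hf (e + x)
          (by simp [map_add, he, hx, h1, β_zero O h1])
          (by rw [map_add, hfe, h2, add_zero]; exact one_ne_zero)
        simpa using W.sub_mem h3 heW
      · exact hother f hfW (fun h => one_ne_zero (hfe.symm.trans (by
            rw [h, map_zero, LinearMap.zero_apply]))) hf x hx h2
    · exact hother e heW he0 he x hx h1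
  refine hbad (Submodule.mem_span_singleton.2 ⟨θ k₀, ?_⟩)
  have hv : v₀ ∈ W := by
    set v₁ := v₀ - β v₀ f • e - β v₀ e • f with hv₁
    have h1e : β v₁ e = 0 := by
      simp only [hv₁, map_sub, LinearMap.sub_apply, β_smul_left O, he, hfe, mul_zero, mul_one, sub_zero,
        sub_self]
    have h1f : β v₁ f = 0 := by
      simp only [hv₁, map_sub, LinearMap.sub_apply, β_smul_left O, hf, hef, mul_zero, mul_one, sub_zero,
        sub_self]
    obtain ⟨c, hc⟩ := exists_real_half O (self_fixed O v₁)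
    have h4 : v₁ + e + c • f ∈ W := hiso _ (by
      simp only [map_add, LinearMap.add_apply, β_smul_left O, β_smul_right O, he, hf, hef, hfe, h1e, h1f,
        β_zero O h1e, β_zero O h1f, mul_zero, mul_one, add_zero, zero_add]
      linear_combination hc)
    have : v₀ = (v₁ + e + c • f) - e - c • f + β v₀ f • e + β v₀ e • f := by rw [hv₁]; abel
    rw [this]
    exact W.add_mem (W.add_mem (W.sub_mem (W.sub_mem h4 heW) (W.smul_mem _ hfW)) (W.smul_mem _ heW))
      (W.smul_mem _ hfW)
  exact (hv k₀).symm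

end

end CfsgLib.MaxSub.ExtUnitary
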