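/-
Common zeros of quadratic functions over the fixed field of the involution.
-/
import Cfsg.Agent.Lib.MaxSub.ExtUnitary.Field
import Mathlib.FieldTheory.ChevalleyWarning

set_option autoImplicit false
set_option maxHeartbeats 400000
set_option linter.unusedSectionVars false
set_option linter.style.haveILetI false

namespace CfsgLib.MaxSub.ExtUnitary

open Module

/-- The number of common zeros of few quadratic functions is divisible by the characteristic. -/
theorem dvd_zeros {K A : Type*} [Field K] [Fintype K] [AddCommGroup A] [Module K A]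
    [FiniteDimensional K A] {ι : Type*} [Fintype ι] (h : 2 * Fintype.card ι < finrank K A)
    (B : ι → A →ₗ[K] A →ₗ[K] K) : ringChar K ∣ Nat.card {a : A // ∀ i, B i a a = 0} := by
  classical
  let b := Module.finBasis K A
  let P : ι → MvPolynomial (Fin (finrank K A)) K := fun i =>
    ∑ j, ∑ k, MvPolynomial.C (B i (b j) (b k)) * MvPolynomial.X j * MvPolynomial.X k
  have hdeg : ∀ i, (P i).totalDegree ≤ 2 := fun i => by
    refine MvPolynomial.totalDegree_finsetSum_le fun j _ =>
      MvPolynomial.totalDegree_finsetSum_le fun k _ => ?_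
    refine (MvPolynomial.totalDegree_mul _ _).trans ?_
    rw [MvPolynomial.totalDegree_X]
    have := MvPolynomial.totalDegree_mul
      (MvPolynomial.C (B i (b j) (b k)) : MvPolynomial (Fin (finrank K A)) K) (MvPolynomial.X j)
    rw [MvPolynomial.totalDegree_C, MvPolynomial.totalDegree_X] at this
    omega
  have heval : ∀ i (c : Fin (finrank K A) → K), MvPolynomial.eval c (P i) =
      B i (b.equivFun.symm c) (b.equivFun.symm c) := by
    intro i c
    simp only [P, map_sum, map_mul, MvPolynomial.eval_C, MvPolynomial.eval_X, Basis.equivFun_symm_apply,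
      LinearMap.sum_apply, map_smul, LinearMap.smul_apply, smul_eq_mul, Finset.mul_sum]
    rw [Finset.sum_comm]
    exact Finset.sum_congr rfl fun j _ => Finset.sum_congr rfl fun k _ => by ring
  have hdvd := char_dvd_card_solutions_of_sum_lt (ringChar K) (s := Finset.univ) (f := P) (by
    refine lt_of_le_of_lt (Finset.sum_le_card_nsmul _ _ 2 fun i _ => hdeg i) ?_
    rw [Finset.card_univ, smul_eq_mul, Fintype.card_fin]; omega)
  have hcard : Nat.card {a : A // ∀ i, B i a a = 0} = Nat.card {c : Fin (finrank K A) → K //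
      ∀ i ∈ (Finset.univ : Finset ι), MvPolynomial.eval c (P i) = 0} :=
    Nat.card_congr (Equiv.subtypeEquiv b.equivFun.toEquiv fun a => by
      simp only [heval, Finset.mem_univ, forall_const, LinearEquiv.coe_toEquiv,
        LinearEquiv.symm_apply_apply])
  rw [hcard, Nat.card_eq_fintype_card]
  convert hdvd

/-- A non-zero common zero. -/
theorem exists_zero' {K A : Type*} [Field K] [Fintype K] [AddCommGroup A] [Module K A]
    [FiniteDimensional K A] {ι : Type*} [Fintype ι] (h : 2 * Fintype.card ι < finrank K A)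
    (B : ι → A →ₗ[K] A →ₗ[K] K) : ∃ a : A, a ≠ 0 ∧ ∀ i, B i a a = 0 := by
  classical
  haveI : Finite A := Module.finite_of_finite K
  by_contra hc
  push Not at hc
  haveI : Subsingleton {a : A // ∀ i, B i a a = 0} := ⟨fun a b => Subtype.ext (by
    have key : ∀ x : {a : A // ∀ i, B i a a = 0}, x.1 = 0 := fun x => by
      by_contra hx
      obtain ⟨i, hi⟩ := hc x.1 hx
      exact hi (x.2 i)
    rw [key a, key b])⟩
  haveI : Nonempty {a : A // ∀ i, B i a a = 0} := ⟨⟨0, fun i => by simp⟩⟩
  have := dvd_zeros h B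
  rw [Nat.card_unique, Nat.dvd_one] at this
  exact (CharP.char_is_prime K (ringChar K)).ne_one this

/-- A common zero off the two axes of a product. -/
theorem exists_zero_prod {K A₁ A₂ : Type*} [Field K] [Fintype K] [AddCommGroup A₁] [Module K A₁]
    [FiniteDimensional K A₁] [AddCommGroup A₂] [Module K A₂] [FiniteDimensional K A₂] [Nontrivial A₁]
    [Nontrivial A₂] {ι : Type*} [Fintype ι] (h : 2 * Fintype.card ι < finrank K A₁ + finrank K A₂)
    (B : ι → (A₁ × A₂) →ₗ[K] (A₁ × A₂) →ₗ[K] K) (h1 : ∀ i a, B i (a, 0) (a, 0) = 0)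
    (h2 : ∀ i a, B i (0, a) (0, a) = 0) :
    ∃ (a : A₁) (c : A₂), a ≠ 0 ∧ c ≠ 0 ∧ ∀ i, B i (a, c) (a, c) = 0 := by
  classical
  haveI : Finite A₁ := Module.finite_of_finite K
  haveI : Finite A₂ := Module.finite_of_finite K
  by_contra hc
  push Not at hc
  have hd := dvd_zeros (by rw [Module.finrank_prod]; exact h) B
  have hs : {z : A₁ × A₂ | ∀ i, B i z z = 0} =
      Set.range (fun a : A₁ => (a, (0 : A₂))) ∪ Set.range (fun c : A₂ => ((0 : A₁), c)) := by
    ext ⟨a, c⟩
    constructor
    · intro hz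
      by_cases ha : a = 0
      · exact Or.inr ⟨c, by rw [ha]⟩
      · by_cases hc0 : c = 0
        · exact Or.inl ⟨a, by rw [hc0]⟩
        · obtain ⟨i, hi⟩ := hc a c ha hc0
          exact absurd (hz i) hi
    · rintro (⟨x, hx⟩ | ⟨x, hx⟩)
      · exact hx ▸ fun i => h1 i x
      · exact hx ▸ fun i => h2 i x
  have hi : Set.range (fun a : A₁ => (a, (0 : A₂))) ∩ Set.range (fun c : A₂ => ((0 : A₁), c)) = {0} := by
    ext ⟨a, c⟩
    simp [Prod.ext_iff, eq_comm, and_comm]
  have hn := Set.ncard_union_add_ncard_inter (Set.range fun a : A₁ => (a, (0 : A₂)))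
    (Set.range fun c : A₂ => ((0 : A₁), c))
  rw [hi, Set.ncard_singleton, ← hs, Set.ncard_range_of_injective (fun a b e => congrArg Prod.fst e),
    Set.ncard_range_of_injective (fun a b e => congrArg Prod.snd e), ← Nat.card_coe_set_eq] at hn
  have hp := CharP.char_is_prime K (ringChar K)
  have hA : ∀ (A : Type _) [AddCommGroup A] [Module K A] [FiniteDimensional K A], 0 < finrank K A →
      ringChar K ∣ Nat.card A := fun A _ _ _ hA => by
    rw [Module.natCard_eq_pow_finrank (K := K)]
    refine dvd_pow ?_ hA.ne'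
    rw [Nat.card_eq_fintype_card]
    obtain ⟨m, -, hm⟩ := FiniteField.card K (ringChar K)
    rw [hm]
    exact dvd_pow_self _ m.2.ne'
  have ha := hA A₁ Module.finrank_pos
  have hb : ringChar K ∣ Nat.card A₂ := by
    rw [Module.natCard_eq_pow_finrank (K := K)]
    refine dvd_pow ?_ (Module.finrank_pos (R := K) (M := A₂)).ne'
    rw [Nat.card_eq_fintype_card]
    obtain ⟨m, -, hm⟩ := FiniteField.card K (ringChar K)
    rw [hm]
    exact dvd_pow_self _ m.2.ne'
  have hsum := dvd_add ha hb
  rw [← hn] at hsum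
  have h1' := (Nat.dvd_add_right (show ringChar K ∣ Nat.card {z : A₁ × A₂ | ∀ i, B i z z = 0} from hd)).1
    hsum
  exact hp.ne_one (Nat.dvd_one.1 h1')

section

variable {F L : Type*} [Field F] [Fintype F] [Field L] [Algebra F L] [FiniteDimensional F L]
  {q : ℕ} {σ : F →+* F} {τ : L →+* L}

/-- The fixed field of the involution. -/
abbrev F₀ (σ : F →+* F) : Subfield F := RingHom.eqLocusField σ (RingHom.id F)

theorem mem_F₀ {a : F} : a ∈ F₀ σ ↔ σ a = a := Iff.rfl

theorem smul_F₀ {W : Type*} [AddCommGroup W] [Module F W] (c : F₀ σ) (w : W) : c • w = (c : F) • w :=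
  rfl

variable (E : FD q σ τ)
include E

theorem τ_smul_F₀ (c : F₀ σ) (x : L) : τ (c • x) = c • τ x := by
  rw [smul_F₀, smul_F₀, τ_smul E, mem_F₀.1 c.2]

theorem finrank_F₀ : finrank (F₀ σ) F = 2 := by
  obtain ⟨x, hx⟩ := exists_moved E
  have hli : LinearIndependent (F₀ σ) ![(1 : F), x] := by
    refine LinearIndependent.pair_iff.2 fun s t h => ?_
    rw [smul_F₀, smul_F₀, smul_eq_mul, smul_eq_mul, mul_one] at h
    have h' := congrArg σ h
    rw [map_add, map_mul, mem_F₀.1 s.2, mem_F₀.1 t.2, map_zero] at h'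
    have ht : (t : F) * (σ x - x) = 0 := by linear_combination h' - h
    have ht0 : (t : F) = 0 := (mul_eq_zero.1 ht).resolve_right (sub_ne_zero.2 hx)
    rw [ht0, zero_mul, add_zero] at h
    exact ⟨Subtype.ext h, Subtype.ext ht0⟩
  have hsp : ⊤ ≤ Submodule.span (F₀ σ) (Set.range ![(1 : F), x]) := fun a _ => by
    have ht : (σ a - a) / (σ x - x) ∈ F₀ σ := by
      rw [mem_F₀, map_div₀, map_sub, map_sub, σσ E, σσ E, ← neg_sub (σ a), ← neg_sub (σ x), neg_div_neg_eq]
    obtain ⟨t, htt⟩ : ∃ t : F, t = (σ a - a) / (σ x - x) := ⟨_, rfl⟩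
    have hs : a - t * x ∈ F₀ σ := by
      rw [mem_F₀, map_sub, map_mul, htt, mem_F₀.1 ht]
      have : (σ a - a) / (σ x - x) * (σ x - x) = σ a - a := div_mul_cancel₀ _ (sub_ne_zero.2 hx)
      linear_combination -this
    have : a = (⟨_, hs⟩ : F₀ σ) • (1 : F) + (⟨t, htt ▸ ht⟩ : F₀ σ) • x := by
      rw [smul_F₀, smul_F₀, smul_eq_mul, smul_eq_mul, mul_one, sub_add_cancel]
    rw [this]
    exact add_mem (Submodule.smul_mem _ _ (Submodule.subset_span ⟨0, rfl⟩))
      (Submodule.smul_mem _ _ (Submodule.subset_span ⟨1, rfl⟩))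
  rw [finrank_eq_card_basis (Basis.mk hli hsp), Fintype.card_fin]

theorem finrank_F₀_mul (W : Type*) [AddCommGroup W] [Module F W] [FiniteDimensional F W] :
    finrank (F₀ σ) W = 2 * finrank F W := by
  rw [← Module.finrank_mul_finrank (F₀ σ) F W, finrank_F₀ E]

/-- The retraction onto the fixed field. -/
theorem exists_retraction : ∃ φ : F →ₗ[F₀ σ] F₀ σ, ∀ a, σ a = a → (φ a : F) = a := by
  obtain ⟨θ, hθ⟩ := exists_theta E
  refine ⟨{ toFun := fun a => ⟨θ * a + σ (θ * a), by rw [mem_F₀, map_add, σσ E, add_comm]⟩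
            map_add' := fun a b => Subtype.ext (by
              show θ * (a + b) + σ (θ * (a + b)) = θ * a + σ (θ * a) + (θ * b + σ (θ * b))
              rw [mul_add, map_add]; ring)
            map_smul' := fun c a => Subtype.ext (by
              show θ * (c • a) + σ (θ * (c • a)) = (c : F) * (θ * a + σ (θ * a))
              rw [smul_F₀, smul_eq_mul, mul_left_comm, map_mul, mem_F₀.1 c.2]; ring) },
    fun a ha => ?_⟩
  show θ * a + σ (θ * a) = a
  rw [map_mul, ha, ← add_mul, hθ, one_mul]

/-- A basis of fixed elements containing the identity. -/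
theorem exists_real_coords : ∃ (m : ℕ) (d : Fin m → L), m + 1 = finrank F L ∧ (∀ i, τ (d i) = d i) ∧
    ∀ c : L, Algebra.trace F L c = 0 → (∀ i, Algebra.trace F L (c * d i) = 0) → c = 0 := by
  classical
  obtain ⟨S, hS, h1, hspan, hli⟩ := exists_linearIndepOn_id_extension (K := F)
    (s := ({1} : Set L)) (t := {x | τ x = x}) (LinearIndepOn.singleton one_ne_zero)
    (by intro x hx; rw [Set.mem_singleton_iff] at hx; rw [hx]; exact map_one τ)
  haveI : Finite L := Module.finite_of_finite F
  haveI : Fintype S := Fintype.ofFinite S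
  have htop : ⊤ ≤ Submodule.span F (Set.range ((↑) : S → L)) := by
    rw [Subtype.range_coe, ← span_real E]
    exact Submodule.span_le.2 hspan
  let b := Basis.mk hli htop
  have hcard : Fintype.card S = finrank F L := (finrank_eq_card_basis b).symm
  let one : S := ⟨1, h1 rfl⟩
  let e := (Fintype.equivFin {s : S // s ≠ one})
  refine ⟨_, fun i => ((e.symm i).1 : L), ?_, fun i => hS (e.symm i).1.2, fun c hc hcd => ?_⟩
  · rw [Fintype.card_subtype_compl, Fintype.card_subtype_eq, hcard]
    have := E.prime.pos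
    omega
  · refine CfsgLib.MaxSub.ExtSymp.eq_zero_of_trace (F := F) fun k => ?_
    have hk : ∀ s : S, Algebra.trace F L ((s : L) * c) = 0 := fun s => by
      by_cases hs : s = one
      · rw [hs, one_mul, hc]
      · have := hcd (e ⟨s, hs⟩)
        simp only [Equiv.symm_apply_apply] at this
        rwa [mul_comm]
    rw [← b.sum_repr k, Finset.sum_mul, map_sum]
    refine Finset.sum_eq_zero fun s _ => ?_
    rw [Algebra.smul_mul_assoc, map_smul, show b s = (s : L) from Basis.mk_apply hli htop s, hk, smul_zero]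

theorem fixed_of_trace {d x : L} (hd : τ d = d) (hx : τ x = x) :
    σ (Algebra.trace F L (x * d)) = Algebra.trace F L (x * d) := by
  rw [← trace_τ E, map_mul, hd, hx]

end

end CfsgLib.MaxSub.ExtUnitary
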