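/-
A member meeting an isotropic line in a hyperplane.
-/
import Cfsg.Agent.Lib.MaxSub.ExtUnitary.Basic
import Cfsg.Agent.Lib.MaxSub.ExtUnitary.Zeros

set_option autoImplicit false
set_option maxHeartbeats 400000
set_option linter.unusedSectionVars false
set_option linter.style.haveILetI false

namespace CfsgLib.MaxSub.ExtUnitary

open Module
open CfsgLib.MaxSub.ExtLin (Lin mem_lin_iff finrank_lin)

variable {F L V : Type*} [Field F] [Fintype F] [Field L] [Algebra F L] [FiniteDimensional F L]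
  [AddCommGroup V] [Module F V] [Module L V] [IsScalarTower F L V] [FiniteDimensional F V]
  {q : ℕ} {σ : F →+* F} {τ : L →+* L} {β : V →ₗ[L] V →ₛₗ[τ] L} {μ : L}
  {G : Subgroup (V ≃ₗ[F] V)}

variable (F L) in
/-- The coordinates of a subspace on a line. -/
def coords (M : Submodule F V) (e : V) : Submodule F L :=
  M.comap (((LinearMap.id : L →ₗ[L] L).smulRight e).restrictScalars F)

theorem mem_coords {M : Submodule F V} {e : V} {k : L} : k ∈ coords F L M e ↔ k • e ∈ M := Iff.rfl

theorem finrank_coords {M : Submodule F V} {e : V} (he : e ≠ 0) :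
    finrank F (coords F L M e) = finrank F (M ⊓ Lin F L e : Submodule F V) := by
  have hinj : Function.Injective (((LinearMap.id : L →ₗ[L] L).smulRight e).restrictScalars F) :=
    fun a b h => smul_left_injective L he h
  have hmap : (coords F L M e).map (((LinearMap.id : L →ₗ[L] L).smulRight e).restrictScalars F) =
      M ⊓ Lin F L e := by
    ext x
    constructor
    · rintro ⟨k, hk, rfl⟩
      exact ⟨hk, mem_lin_iff.2 ⟨k, rfl⟩⟩
    · rintro ⟨hx, hx'⟩
      obtain ⟨k, rfl⟩ := mem_lin_iff.1 hx'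
      exact ⟨k, hx, rfl⟩
  rw [← hmap]
  exact (LinearEquiv.finrank_eq (Submodule.equivMapOfInjective _ hinj _))

omit [Fintype F] in
/-- A proper subspace is not closed under multipliers outside the ground field. -/
theorem exists_mul_notMem (hp : (finrank F L).Prime) {B : Submodule F L} {b₀ : L} (hb₀ : b₀ ∈ B)
    (hb₀0 : b₀ ≠ 0) (hB : B ≠ ⊤) {c : L} (hc : c ∉ (⊥ : Subalgebra F L)) :
    ∃ b ∈ B, b * c ∉ B := by
  by_contra hno
  push Not at hno
  let S : Subalgebra F L :=
    { carrier := {lam | ∀ b ∈ B, b * lam ∈ B}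
      mul_mem' := fun {x y} hx hy b hb => by rw [← mul_assoc]; exact hy _ (hx b hb)
      add_mem' := fun {x y} hx hy b hb => by rw [mul_add]; exact B.add_mem (hx b hb) (hy b hb)
      algebraMap_mem' := fun a b hb => by
        rw [mul_comm, ← Algebra.smul_def]; exact B.smul_mem a hb }
  have := Subalgebra.isSimpleOrder_of_finrank_prime F L hp
  rcases eq_bot_or_eq_top S with h | h
  · exact hc (h ▸ (hno : c ∈ S))
  · refine hB (eq_top_iff.2 fun x _ => ?_)
    have h1 : x / b₀ ∈ S := h ▸ Algebra.mem_top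
    have := h1 b₀ hb₀
    rwa [mul_div_cancel₀ _ hb₀0] at this

section

variable (O : EU q σ τ β μ G)
include O

theorem finrank_inf_lt {M : Submodule F V} {e : V} (P : Meet F β G M e) :
    finrank F (M ⊓ Lin F L e : Submodule F V) < finrank F L := by
  rw [← mem_finrank O P.mem]
  refine Submodule.finrank_lt_finrank_of_lt (lt_of_le_of_ne inf_le_left fun h => P.ne ?_)
  exact Submodule.eq_of_le_of_finrank_eq (inf_eq_left.1 h)
    (by rw [mem_finrank O P.mem, finrank_lin P.ne0])

theorem coords_ne_top {M : Submodule F V} {e : V} (P : Meet F β G M e) : coords F L M e ≠ ⊤ := by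
  intro h
  have := finrank_inf_lt O P
  rw [← finrank_coords P.ne0, h, finrank_top] at this
  omega

theorem exists_off {M : Submodule F V} {e : V} (P : Meet F β G M e) : ∃ m ∈ M, m ∉ Lin F L e := by
  by_contra hc
  push Not at hc
  exact P.ne (Submodule.eq_of_le_of_finrank_eq hc (by rw [mem_finrank O P.mem, finrank_lin P.ne0]))

/-- Two members sharing more give a larger meet. -/
theorem bigger_of {M : Submodule F V} (hM : IsMem β G M) {j : ℕ} {g : V ≃ₗ[F] V} (hg : g ∈ G)
    (hne : M.map g.toLinearMap ≠ M) {W : Submodule F V} (hW : W ≤ M) (hW' : W ≤ M.map g.toLinearMap)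
    (hj : j < finrank F W) :
    ∃ M' e', Meet F β G M' e' ∧ j < finrank F (M' ⊓ Lin F L e' : Submodule F V) := by
  obtain ⟨M', e', P', h⟩ := meet_of_members O (mem_map O hM hg) hM hne
  refine ⟨M', e', P', ?_⟩
  rw [h]
  exact lt_of_lt_of_le hj (Submodule.finrank_mono (le_inf hW' hW))

/-- Adding a vector. -/
theorem finrank_sup_vec {U : Submodule F V} {x : V} (hx : x ∉ U) :
    finrank F U < finrank F (U ⊔ F ∙ x : Submodule F V) :=
  Submodule.finrank_lt_finrank_of_lt (lt_of_le_of_ne le_sup_left fun e =>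
    hx (e ▸ Submodule.mem_sup_right (Submodule.mem_span_singleton_self x)))

/-- An element fixing the common part and moving one vector inside the member. -/
theorem bigger_by {M : Submodule F V} {e : V} (P : Meet F β G M e) {g : V ≃ₗ[F] V} (hg : g ∈ G)
    (hfix : ∀ u ∈ M ⊓ Lin F L e, g u = u) {m₀ : V} (hm₀ : m₀ ∈ M) (hgm₀ : g m₀ ∈ M)
    (hout : g m₀ ∉ Lin F L e) {m₁ : V} (hm₁ : m₁ ∈ M) (hgm₁ : g m₁ ∉ M) :
    ∃ M' e', Meet F β G M' e' ∧
      finrank F (M ⊓ Lin F L e : Submodule F V) < finrank F (M' ⊓ Lin F L e' : Submodule F V) := by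
  refine bigger_of O P.mem hg (fun h => hgm₁ (h ▸ ⟨m₁, hm₁, rfl⟩))
    (W := (M ⊓ Lin F L e) ⊔ F ∙ g m₀) ?_ ?_ (finrank_sup_vec O fun h => hout h.2)
  · exact sup_le inf_le_left ((Submodule.span_singleton_le_iff_mem _ _).2 hgm₀)
  · refine sup_le (fun u hu => ⟨u, hu.1, hfix u hu⟩) ((Submodule.span_singleton_le_iff_mem _ _).2 ?_)
    exact ⟨m₀, hm₀, rfl⟩

theorem trace_perp {M : Submodule F V} {e : V} (hM : IsMem β G M) {m : V} (hm : m ∈ M) {b : L}
    (hb : b ∈ coords F L M e) : Algebra.trace F L (τ b * β m e) = 0 := by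
  rw [← β_smul_right O]
  exact mem_ti O hM m hm _ hb

/-- A vector perpendicular to the line with given value. -/
theorem exists_perp_vec {e m : V} (hm : m ∉ Lin F L e) : ∃ w, β e w = 0 ∧ β m w = 1 :=
  exists_sep O (w := m) (fun h => hm h) 1

/-- The moves of a vector perpendicular to the line. -/
theorem exists_move {e w : V} (he : β e e = 0) (hw : β e w = 0) (x : L) :
    ∃ g ∈ G, ∀ m, β m e = 0 → g m = m - (x * β m w) • e := by
  obtain ⟨c, hc⟩ := exists_real_half O (self_fixed O (τ x • w))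
  obtain ⟨g, hg, hgy⟩ := O.sieg e (τ x • w) c he
    (by rw [β_smul_left O, β_zero O hw, mul_zero]) hc
  refine ⟨g, hg, fun m hm => ?_⟩
  rw [hgy, hm, zero_smul, mul_zero, zero_smul, add_zero, add_zero, β_smul_right O, ττ O.fd]

/-- Growing the meet. -/
theorem bigger {M : Submodule F V} {e : V} (P : Meet F β G M e)
    (hpos : 0 < finrank F (M ⊓ Lin F L e : Submodule F V))
    (hlt : finrank F (M ⊓ Lin F L e : Submodule F V) + 1 < finrank F L) :
    ∃ M' e', Meet F β G M' e' ∧
      finrank F (M ⊓ Lin F L e : Submodule F V) < finrank F (M' ⊓ Lin F L e' : Submodule F V) := by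
  classical
  have hpr := O.fd.prime
  set B := coords F L M e with hBdef
  have hBtop : B ≠ ⊤ := coords_ne_top O P
  have hBj : finrank F B = finrank F (M ⊓ Lin F L e : Submodule F V) := finrank_coords P.ne0
  obtain ⟨b₀, hb₀, hb₀0⟩ := Submodule.exists_mem_ne_zero_of_ne_bot (show B ≠ ⊥ from fun h0 => by
    rw [h0, finrank_bot] at hBj; omega)
  have hUβ : ∀ u ∈ M ⊓ Lin F L e, β u e = 0 := fun u hu =>
    beta_lin O P.sing hu.2 (mem_lin_self O e)
  let δ : M →ₗ[F] L := ((β.flip e).restrictScalars F).domRestrict M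
  have hδ : ∀ m : M, δ m = β (m : V) e := fun m => rfl
  by_cases hD : ∀ m ∈ M, β m e = 0
  · -- perpendicular to the line
    obtain ⟨m₀, hm₀, hm₀e⟩ := exists_off O P
    obtain ⟨w, hew, hm₀w⟩ := exists_perp_vec O hm₀e
    let γ : M →ₗ[F] L := ((β.flip w).restrictScalars F).domRestrict M
    have hγ : ∀ m : M, γ m = β (m : V) w := fun m => rfl
    have hfix : ∀ x : L, ∀ u ∈ M ⊓ Lin F L e, u - (x * β u w) • e = u := fun x u hu => by
      obtain ⟨k, rfl⟩ := mem_lin_iff.1 hu.2
      rw [β_smul_left O, hew, mul_zero, mul_zero, zero_smul, sub_zero]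
    by_cases hC : ∀ m ∈ M, β m w ∈ (⊥ : Subalgebra F L)
    · obtain ⟨x, hx⟩ := SetLike.exists_not_mem_of_ne_top B hBtop rfl
      obtain ⟨g, hg, hgy⟩ := exists_move O P.sing hew x
      have hrange : finrank F (LinearMap.range γ) ≤ 1 := by
        refine (Submodule.finrank_mono (t := (F ∙ (1 : L))) ?_).trans
          (by rw [finrank_span_singleton (one_ne_zero : (1 : L) ≠ 0)])
        rintro _ ⟨m, rfl⟩
        obtain ⟨a, ha⟩ := Algebra.mem_bot.1 (hC m.1 m.2)
        exact Submodule.mem_span_singleton.2 ⟨a, by rw [← Algebra.algebraMap_eq_smul_one, ha, hγ]⟩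
      have hsum := LinearMap.finrank_range_add_finrank_ker γ
      rw [mem_finrank O P.mem] at hsum
      refine bigger_of O P.mem hg (W := (LinearMap.ker γ).map M.subtype) (fun h => hx ?_)
        (Submodule.map_subtype_le _ _) ?_ ?_
      · have h1 : g m₀ ∈ M := h ▸ ⟨m₀, hm₀, rfl⟩
        rw [hgy m₀ (hD m₀ hm₀), hm₀w, mul_one] at h1
        have h2 := M.sub_mem hm₀ h1
        rwa [sub_sub_cancel] at h2
      · rintro _ ⟨m, hm, rfl⟩
        refine ⟨m.1, m.2, ?_⟩
        show g m.1 = m.1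
        rw [hgy _ (hD _ m.2), show β (m : V) w = 0 from hm, mul_zero, zero_smul, sub_zero]
      · rw [Submodule.finrank_map_subtype_eq]
        omega
    · push Not at hC
      obtain ⟨m₁, hm₁, hm₁w⟩ := hC
      obtain ⟨b, hb, hbc⟩ := exists_mul_notMem hpr hb₀ hb₀0 hBtop hm₁w
      obtain ⟨g, hg, hgy⟩ := exists_move O P.sing hew b
      refine bigger_by O P hg (fun u hu => by rw [hgy u (hUβ u hu), hfix b u hu]) hm₀ ?_ ?_ hm₁ ?_
      · rw [hgy m₀ (hD m₀ hm₀), hm₀w, mul_one]
        exact M.sub_mem hm₀ hb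
      · rw [hgy m₀ (hD m₀ hm₀)]
        intro h
        refine hm₀e ?_
        simpa using (Lin F L e).add_mem h (mem_lin_iff.2 ⟨b * β m₀ w, rfl⟩)
      · rw [hgy m₁ (hD m₁ hm₁)]
        intro h
        refine hbc ?_
        have h2 := M.sub_mem hm₁ h
        rw [sub_sub_cancel] at h2
        exact h2
  push Not at hD
  obtain ⟨mD, hmD, hmDe⟩ := hD
  -- skew multipliers are not all admissible
  obtain ⟨a₀, ha₀0, ha₀⟩ := exists_skew_unit O.fd
  have hskew : ∀ s : L, τ s = s → a₀ * s + τ (a₀ * s) = 0 := fun s hs => by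
    rw [map_mul, hs, ← add_mul, ha₀, zero_mul]
  have hnotall : ∀ d : L, d ≠ 0 → ∃ a : L, a + τ a = 0 ∧ a * d ∉ B := by
    intro d hd
    by_contra hc
    push Not at hc
    refine hBtop (eq_top_iff.2 fun x _ => ?_)
    obtain ⟨c₁, c₂, s, t, hs, ht, he⟩ := exists_real_split O.fd (x / (a₀ * d))
    have : x = c₁ • (a₀ * s * d) + c₂ • (a₀ * t * d) := by
      rw [← mul_div_cancel₀ x (mul_ne_zero ha₀0 hd), he, mul_add, Algebra.mul_smul_comm,
        Algebra.mul_smul_comm]
      congr 1 <;> ring_nf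
    rw [this]
    exact B.add_mem (B.smul_mem _ (hc _ (hskew s hs))) (B.smul_mem _ (hc _ (hskew t ht)))
  have htv : ∀ a : L, a + τ a = 0 → ∃ g ∈ G, ∀ y, g y = y + (a * β y e) • e := fun a ha =>
    O.tv a e P.sing ha
  by_cases hPU : ∃ m ∈ M, m ∉ Lin F L e ∧ β m e = 0
  · obtain ⟨m, hm, hme, hmβ⟩ := hPU
    obtain ⟨a, ha, had⟩ := hnotall _ hmDe
    obtain ⟨g, hg, hgy⟩ := htv a ha
    have hf : ∀ y, β y e = 0 → g y = y := fun y hy => by rw [hgy, hy, mul_zero, zero_smul, add_zero]
    refine bigger_by O P hg (fun u hu => hf u (hUβ u hu)) hm (by rwa [hf m hmβ]) (by rwa [hf m hmβ])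
      hmD ?_
    rw [hgy]
    intro h
    refine had ?_
    have h2 := M.sub_mem h hmD
    rw [add_sub_cancel_left] at h2
    exact h2
  push Not at hPU
  -- the values on the line
  set D := LinearMap.range δ with hDdef
  have hker : finrank F (LinearMap.ker δ) = finrank F B := by
    rw [hBj, ← Submodule.finrank_map_subtype_eq M (LinearMap.ker δ)]
    suffices (LinearMap.ker δ).map M.subtype = M ⊓ Lin F L e by rw [this]
    ext x
    constructor
    · rintro ⟨m, hm, rfl⟩
      refine ⟨m.2, by_contra fun h => hPU m.1 m.2 h ?_⟩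
      exact hm
    · rintro ⟨hx, hx'⟩
      exact ⟨⟨x, hx⟩, hUβ x ⟨hx, hx'⟩, rfl⟩
  have hDdim : finrank F B + finrank F D = finrank F L := by
    have := LinearMap.finrank_range_add_finrank_ker δ
    rw [mem_finrank O P.mem, hker] at this
    rw [hDdef]; omega
  have horth : ∀ d ∈ D, ∀ b ∈ B, Algebra.trace F L (d * τ b) = 0 := by
    rintro _ ⟨m, rfl⟩ b hb
    rw [mul_comm]
    exact trace_perp O P.mem m.2 hb
  -- the annihilator of the values
  have hann : ∀ x : L, (∀ d ∈ D, Algebra.trace F L (x * τ d) = 0) → x ∈ B := by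
    let Dt : Submodule F L :=
      { carrier := {y | τ y ∈ D}
        zero_mem' := by show τ 0 ∈ D; rw [map_zero]; exact D.zero_mem
        add_mem' := fun {a b} ha hb => by show τ (a + b) ∈ D; rw [map_add]; exact D.add_mem ha hb
        smul_mem' := fun c a ha => by show τ (c • a) ∈ D; rw [τ_smul O.fd]; exact D.smul_mem _ ha }
    haveI : Finite L := Module.finite_of_finite F
    have hDt : finrank F Dt = finrank F D := by
      have hc : Nat.card Dt = Nat.card D := Nat.card_congr
        { toFun := fun y => ⟨τ y.1, y.2⟩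
          invFun := fun d => ⟨τ d.1, show τ (τ d.1) ∈ D by rw [ττ O.fd]; exact d.2⟩
          left_inv := fun y => Subtype.ext (ττ O.fd _)
          right_inv := fun d => Subtype.ext (ττ O.fd _) }
      rw [Module.natCard_eq_pow_finrank (K := F) (V := Dt), Nat.card_eq_fintype_card] at hc
      refine Nat.pow_right_injective (Fintype.one_lt_card (α := F)) ?_
      show Fintype.card F ^ finrank F Dt = Fintype.card F ^ finrank F D
      rw [Module.natCard_eq_pow_finrank (K := F) (V := D), Nat.card_eq_fintype_card] at hc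
      exact hc
    let φ : L →ₗ[F] Dual F Dt := Dt.subtype.dualMap ∘ₗ
      ((Algebra.traceForm F L).toDual (traceForm_nondegenerate F L)).toLinearMap
    have hφ : ∀ (x : L) (y : Dt), φ x y = Algebra.trace F L (x * (y : L)) := fun x y => rfl
    have hsur : Function.Surjective φ :=
      (LinearMap.dualMap_surjective_of_injective Dt.injective_subtype).comp (LinearEquiv.surjective _)
    have hle : B ≤ LinearMap.ker φ := fun b hb => LinearMap.mem_ker.2 (LinearMap.ext fun y => by
      rw [hφ, LinearMap.zero_apply]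
      have h1 : σ (Algebra.trace F L (τ y.1 * τ b)) = 0 := by rw [horth _ y.2 b hb, map_zero]
      rwa [← trace_τ O.fd, map_mul, ττ O.fd, ττ O.fd, mul_comm] at h1)
    have hk := LinearMap.finrank_range_add_finrank_ker φ
    rw [LinearMap.range_eq_top.2 hsur, finrank_top, Subspace.dual_finrank_eq, hDt] at hk
    have heq := Submodule.eq_of_le_of_finrank_eq hle (by omega)
    intro x hx
    rw [heq, LinearMap.mem_ker]
    refine LinearMap.ext fun y => ?_
    rw [hφ, LinearMap.zero_apply]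
    have := hx _ y.2
    rwa [ττ O.fd] at this
  have hDpos : 0 < finrank F D := by omega
  have hpick : ∀ d ∈ D, ∃ m ∈ M, β m e = d := by
    rintro _ ⟨m, rfl⟩
    exact ⟨m.1, m.2, rfl⟩
  have finish : ∀ a : L, a + τ a = 0 → (∃ d ∈ D, d ≠ 0 ∧ a * d ∈ B) → (∃ d ∈ D, a * d ∉ B) →
      ∃ M' e', Meet F β G M' e' ∧
        finrank F (M ⊓ Lin F L e : Submodule F V) < finrank F (M' ⊓ Lin F L e' : Submodule F V) := by
    rintro a ha ⟨d, hd, hd0, had⟩ ⟨d', hd', had'⟩
    obtain ⟨g, hg, hgy⟩ := htv a ha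
    obtain ⟨m, hm, rfl⟩ := hpick d hd
    obtain ⟨m', hm', rfl⟩ := hpick d' hd'
    refine bigger_by O P hg (fun u hu => by rw [hgy, hUβ u hu, mul_zero, zero_smul, add_zero]) hm ?_ ?_
      hm' ?_
    · rw [hgy]; exact M.add_mem hm had
    · rw [hgy]
      intro h
      refine hd0 (beta_lin O P.sing ?_ (mem_lin_self O e))
      simpa using (Lin F L e).sub_mem h (mem_lin_iff.2 ⟨a * β m e, rfl⟩)
    · rw [hgy]
      intro h
      refine had' ?_
      have h2 := M.sub_mem h hm'
      rw [add_sub_cancel_left] at h2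
      exact h2
  obtain ⟨φ₀, hφ₀⟩ := exists_retraction O.fd
  haveI : Fintype (F₀ σ) := Fintype.ofFinite _
  obtain ⟨k, dd, hk, hdd, hcoord⟩ := exists_real_coords O.fd
  haveI : Module.Finite (F₀ σ) B := Module.Finite.trans F B
  haveI : Module.Finite (F₀ σ) D := Module.Finite.trans F D
  haveI : Nontrivial B := Module.nontrivial_of_finrank_pos (R := F) (by omega)
  haveI : Nontrivial D := Module.nontrivial_of_finrank_pos (R := F) hDpos
  let Qf : Fin k → (B × D) →ₗ[F₀ σ] (B × D) →ₗ[F₀ σ] F₀ σ := fun i =>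
    LinearMap.mk₂ (F₀ σ) (fun p p' => φ₀ (Algebra.trace F L
        (((p.1 : L) * τ (p'.2 : L) + (p.2 : L) * τ (p'.1 : L)) * dd i)))
      (fun x x' y => by
        rw [← map_add, ← map_add]
        congr 2
        simp only [Prod.fst_add, Prod.snd_add, Submodule.coe_add, map_add]
        ring)
      (fun c x y => by
        simp only [Prod.smul_fst, Prod.smul_snd, Submodule.coe_smul_of_tower, smul_mul_assoc, ← smul_add,
          LinearMap.map_smul_of_tower])
      (fun x y y' => by
        rw [← map_add, ← map_add]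
        congr 2
        simp only [Prod.fst_add, Prod.snd_add, Submodule.coe_add, map_add]
        ring)
      (fun c x y => by
        simp only [Prod.smul_fst, Prod.smul_snd, Submodule.coe_smul_of_tower, τ_smul_F₀ O.fd,
          mul_smul_comm, smul_mul_assoc, ← smul_add, LinearMap.map_smul_of_tower])
  have hQ : ∀ i p p', Qf i p p' = φ₀ (Algebra.trace F L
      (((p.1 : L) * τ (p'.2 : L) + (p.2 : L) * τ (p'.1 : L)) * dd i)) := fun i p p' => rfl
  obtain ⟨b, d, hb0, hd0, hzero⟩ := exists_zero_prod (K := F₀ σ) (by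
      rw [finrank_F₀_mul O.fd, finrank_F₀_mul O.fd, Fintype.card_fin]; omega) Qf
    (fun i a => by simp [hQ]) (fun i a => by simp [hQ])
  have hc0 : (b : L) * τ (d : L) + (d : L) * τ (b : L) = 0 := by
    have hcfix : τ ((b : L) * τ (d : L) + (d : L) * τ (b : L)) = (b : L) * τ (d : L) + (d : L) * τ (b : L) := by
      rw [map_add, map_mul, map_mul, ττ O.fd, ττ O.fd]; ring
    refine hcoord _ ?_ fun i => ?_
    · have h1 := horth _ d.2 _ b.2
      have h2 : σ (Algebra.trace F L ((d : L) * τ (b : L))) = 0 := by rw [h1, map_zero]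
      rw [← trace_τ O.fd, map_mul, ττ O.fd, mul_comm] at h2
      rw [map_add, h1, h2, add_zero]
    · rw [← hφ₀ _ (fixed_of_trace O.fd (hdd i) hcfix), ← hQ i (b, d) (b, d), hzero i]
      rfl
  have hdne : (d : L) ≠ 0 := fun h => hd0 (Subtype.ext h)
  set a : L := (b : L) / (d : L) with hadef
  have hads : a * (d : L) = b := div_mul_cancel₀ _ hdne
  have ha : a + τ a = 0 := by
    have hτd : τ (d : L) ≠ 0 := (map_ne_zero τ).2 hdne
    rw [hadef, map_div₀, div_add_div _ _ hdne hτd, hc0, zero_div]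
  by_cases hout : ∃ d' ∈ D, a * d' ∉ B
  · exact finish a ha ⟨_, d.2, hdne, hads ▸ b.2⟩ hout
  push Not at hout
  -- the values inside: only for degree five and two values
  have ha0 : a ≠ 0 := div_ne_zero (fun h => hb0 (Subtype.ext h)) hdne
  have hle : finrank F D ≤ finrank F B :=
    LinearMap.finrank_le_finrank_of_injective (f := ((LinearMap.mulLeft F a).comp D.subtype).codRestrict B
      (fun x => hout x.1 x.2)) fun x y h => Subtype.ext (mul_left_cancel₀ ha0 (congrArg Subtype.val h))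
  have hj : finrank F B = 3 ∧ finrank F D = 2 := by
    obtain ⟨m, hm⟩ := O.fd.odd
    have := O.small
    omega
  let bD := Module.finBasisOfFinrankEq F D hj.2
  have hDspan : ∀ x ∈ D, ∃ c₁ c₂ : F, x = c₁ • (bD 0 : L) + c₂ • (bD 1 : L) := fun x hx => by
    refine ⟨bD.repr ⟨x, hx⟩ 0, bD.repr ⟨x, hx⟩ 1, ?_⟩
    have := congrArg Subtype.val (bD.sum_repr ⟨x, hx⟩)
    simp only [Fin.sum_univ_two, Submodule.coe_add, Submodule.coe_smul] at this
    exact this.symm
  let Sk : Submodule (F₀ σ) L :=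
    { carrier := {x | x + τ x = 0}
      zero_mem' := by simp
      add_mem' := fun {x y} hx hy => by
        show x + y + τ (x + y) = 0
        rw [map_add, add_add_add_comm, show x + τ x = 0 from hx, show y + τ y = 0 from hy, add_zero]
      smul_mem' := fun c x hx => by
        show c • x + τ (c • x) = 0
        rw [τ_smul_F₀ O.fd, ← smul_add, hx, smul_zero] }
  have hSk : finrank F L ≤ finrank (F₀ σ) Sk := by
    obtain ⟨a₁, ha₁0, ha₁⟩ := exists_skew_unit O.fd
    obtain ⟨S, hS, hSsp, hSli⟩ := exists_linearIndependent F {x : L | τ x = x}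
    haveI : Finite L := Module.finite_of_finite F
    haveI : Fintype S := Fintype.ofFinite S
    have hcard : Fintype.card S = finrank F L := by
      refine (finrank_eq_card_basis (Basis.mk hSli ?_)).symm
      rw [Subtype.range_coe, hSsp, span_real O.fd]
    have hli : LinearIndependent (F₀ σ) (fun s : S => (⟨a₁ * (s : L), hskew' ha₁ (hS s.2)⟩ : Sk)) := by
      refine LinearIndependent.of_comp Sk.subtype ?_
      exact (hSli.restrict_scalars (fun x y h => Subtype.ext (by simpa [smul_F₀] using h))).map'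
        (LinearMap.mulLeft (F₀ σ) a₁) (LinearMap.ker_eq_bot.2 (mul_right_injective₀ ha₁0))
    rw [← hcard]
    exact hli.fintype_card_le_finrank
  haveI : Module.Finite (F₀ σ) L := Module.Finite.trans F L
  let A : Submodule (F₀ σ) L := Sk ⊓ (B.restrictScalars (F₀ σ)).comap (LinearMap.mulRight (F₀ σ) (bD 0 : L)) ⊓
    (B.restrictScalars (F₀ σ)).comap (LinearMap.mulRight (F₀ σ) (bD 1 : L))
  have hA : finrank (F₀ σ) A ≤ 2 := by
    by_contra hA3
    let bA := Module.finBasis (F₀ σ) A
    have hli : LinearIndependent F (fun i => (bA i : L)) := by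
      refine Fintype.linearIndependent_iff.2 fun c hc i => eq_zero_of_σ O.fd fun z => ?_
      have h1 : ∑ i, (z * c i) • (bA i : L) = 0 := by
        simp only [mul_smul, ← Finset.smul_sum, hc, smul_zero]
      have h2 := congrArg τ h1
      rw [map_sum, map_zero] at h2
      have h3 : ∑ i, (z * c i + σ (z * c i)) • (bA i : L) = 0 := by
        have hneg : ∀ i, τ ((z * c i) • (bA i : L)) = -(σ (z * c i) • (bA i : L)) := fun i => by
          rw [τ_smul O.fd, show τ (bA i : L) = -(bA i : L) from eq_neg_of_add_eq_zero_right (bA i).2.1.1,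
            smul_neg]
        simp only [hneg, Finset.sum_neg_distrib, neg_eq_zero] at h2
        simp only [add_smul, Finset.sum_add_distrib, h1, h2, add_zero]
      have hmem : ∀ i, σ (z * c i + σ (z * c i)) = z * c i + σ (z * c i) := fun i => by
        rw [map_add, σσ O.fd, add_comm]
      have h4 : ∑ i, (⟨_, hmem i⟩ : F₀ σ) • bA i = 0 := Subtype.ext (by
        rw [Submodule.coe_sum]; exact h3)
      exact congrArg Subtype.val (Fintype.linearIndependent_iff.1 bA.linearIndependent _ h4 i)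
    let Ab : Submodule F L := Submodule.span F (Set.range fun i => (bA i : L))
    have hAb : 3 ≤ finrank F Ab := by
      rw [finrank_span_eq_card hli, Fintype.card_fin]; omega
    have hAbd : ∀ x ∈ Ab, x * (bD 0 : L) ∈ B ∧ x * (bD 1 : L) ∈ B := by
      intro x hx
      induction hx using Submodule.span_induction with
      | mem y hy => obtain ⟨i, rfl⟩ := hy; exact ⟨(bA i).2.1.2, (bA i).2.2⟩
      | zero => simp
      | add y z _ _ hy hz => exact ⟨by rw [add_mul]; exact B.add_mem hy.1 hz.1, by rw [add_mul]; exact B.add_mem hy.2 hz.2⟩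
      | smul c y _ hy => exact ⟨by rw [smul_mul_assoc]; exact B.smul_mem c hy.1, by rw [smul_mul_assoc]; exact B.smul_mem c hy.2⟩
    have hd₀ : (bD 0 : L) ≠ 0 := fun h => bD.ne_zero 0 (Subtype.ext h)
    have hd₁ : (bD 1 : L) ≠ 0 := fun h => bD.ne_zero 1 (Subtype.ext h)
    have hmapeq : ∀ i : Fin 2, Ab.map (LinearMap.mulRight F (bD i : L)) = B := fun i => by
      have hi : (bD i : L) ≠ 0 := fun h => bD.ne_zero i (Subtype.ext h)
      refine Submodule.eq_of_le_of_finrank_le ?_ ?_
      · rintro _ ⟨x, hx, rfl⟩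
        fin_cases i
        · exact (hAbd x hx).1
        · exact (hAbd x hx).2
      · rw [← LinearEquiv.finrank_eq (Submodule.equivMapOfInjective _ (mul_left_injective₀ hi) Ab), hj.1]
        exact hAb
    have hAbtop : Ab ≠ ⊤ := fun h => by
      have := congrArg (fun W : Submodule F L => finrank F (W.map (LinearMap.mulRight F (bD 0 : L)))) h
      rw [hmapeq, hj.1, ← LinearEquiv.finrank_eq (Submodule.equivMapOfInjective _
        (mul_left_injective₀ hd₀) (⊤ : Submodule F L)), finrank_top] at this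
      omega
    obtain ⟨x₀, hx₀, hx₀0⟩ := Submodule.exists_mem_ne_zero_of_ne_bot (show Ab ≠ ⊥ from fun h => by
      rw [h, finrank_bot] at hAb; omega)
    obtain ⟨x, hx, hxc⟩ := exists_mul_notMem hpr hx₀ hx₀0 hAbtop (c := (bD 1 : L) / (bD 0 : L)) (fun h => by
      obtain ⟨c, hc⟩ := Algebra.mem_bot.1 h
      have h2 : (bD 1 : L) = c • (bD 0 : L) := by
        rw [Algebra.smul_def, hc, div_mul_cancel₀ _ hd₀]
      have h3 := Fintype.linearIndependent_iff.1 bD.linearIndependent ![-c, 1] (by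
        rw [Fin.sum_univ_two]
        exact Subtype.ext (by simp [h2])) 1
      simp at h3)
    refine hxc ?_
    obtain ⟨y, hy, he⟩ := (hmapeq 0).ge ((hAbd x hx).2)
    have he' : y * (bD 0 : L) = x * (bD 1 : L) := he
    rw [← mul_div_assoc, ← he', mul_div_cancel_right₀ _ hd₀]
    exact hy
  obtain ⟨W', hW'⟩ := Submodule.exists_isCompl A
  have hW3 : 2 < finrank (F₀ σ) (Sk ⊓ W' : Submodule (F₀ σ) L) := by
    have h1 := Submodule.finrank_sup_add_finrank_inf_eq A (Sk ⊓ W')
    have h2 : A ⊔ Sk ⊓ W' = Sk := by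
      rw [inf_comm Sk, ← sup_inf_assoc_of_le _ (inf_le_left.trans inf_le_left : A ≤ Sk), hW'.sup_eq_top,
        top_inf_eq]
    have h3 : A ⊓ (Sk ⊓ W') = ⊥ := le_bot_iff.1
      ((inf_le_inf_left _ inf_le_right).trans hW'.inf_eq_bot.le)
    rw [h2, h3, finrank_bot] at h1
    have := O.small
    have := O.fd.prime.two_le
    omega
  let hh : L → L → L → F := fun a x y => Algebra.trace F L (a * x * τ y)
  have hh_add : ∀ a a' x y, hh (a + a') x y = hh a x y + hh a' x y := fun a a' x y => by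
    simp only [hh, add_mul, map_add]
  have hh_smul : ∀ (c : F₀ σ) a x y, hh (c • a) x y = c • hh a x y := fun c a x y => by
    simp only [hh, smul_mul_assoc, LinearMap.map_smul_of_tower]
  have hh_swap : ∀ a : L, a + τ a = 0 → ∀ x y, σ (hh a x y) = -hh a y x := fun a ha x y => by
    show σ (Algebra.trace F L (a * x * τ y)) = -Algebra.trace F L (a * y * τ x)
    rw [← trace_τ O.fd, ← map_neg]
    congr 1
    rw [map_mul, map_mul, ττ O.fd, show τ a = -a by linear_combination ha]
    ring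
  let d₁ : L := (bD 0 : L)
  let d₂ : L := (bD 1 : L)
  let Dq : Fin 1 → (Sk ⊓ W' : Submodule (F₀ σ) L) →ₗ[F₀ σ] (Sk ⊓ W' : Submodule (F₀ σ) L) →ₗ[F₀ σ] F₀ σ :=
    fun _ => LinearMap.mk₂ (F₀ σ) (fun x y => φ₀ (hh x.1 d₁ d₁ * hh y.1 d₂ d₂ - hh x.1 d₁ d₂ * hh y.1 d₂ d₁))
      (fun x x' y => by rw [← map_add]; congr 1; simp only [Submodule.coe_add, hh_add]; ring)
      (fun c x y => by
        rw [← map_smul]; congr 1
        simp only [Submodule.coe_smul_of_tower, hh_smul, smul_mul_assoc, smul_sub])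
      (fun x y y' => by rw [← map_add]; congr 1; simp only [Submodule.coe_add, hh_add]; ring)
      (fun c x y => by
        rw [← map_smul]; congr 1
        simp only [Submodule.coe_smul_of_tower, hh_smul, mul_smul_comm, smul_sub])
  obtain ⟨⟨x, hx⟩, hx0, hxq⟩ := exists_zero' (K := F₀ σ) (by simpa using hW3) Dq
  have hxs : x + τ x = 0 := hx.1
  have hdet : hh x d₁ d₁ * hh x d₂ d₂ - hh x d₁ d₂ * hh x d₂ d₁ = 0 := by
    rw [← hφ₀ (hh x d₁ d₁ * hh x d₂ d₂ - hh x d₁ d₂ * hh x d₂ d₁) (by
      rw [map_sub, map_mul, map_mul, hh_swap x hxs, hh_swap x hxs, hh_swap x hxs, hh_swap x hxs]; ring)]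
    exact congrArg Subtype.val (hxq 0)
  obtain ⟨c₁, c₂, hc, hk1, hk2⟩ : ∃ c₁ c₂ : F, (c₁ ≠ 0 ∨ c₂ ≠ 0) ∧
      c₁ * hh x d₁ d₁ + c₂ * hh x d₂ d₁ = 0 ∧ c₁ * hh x d₁ d₂ + c₂ * hh x d₂ d₂ = 0 := by
    by_cases h11 : hh x d₁ d₁ = 0
    · by_cases h21 : hh x d₂ d₁ = 0
      · refine ⟨1, 0, Or.inl one_ne_zero, by rw [h11]; ring, ?_⟩
        have h12 : σ (hh x d₁ d₂) = 0 := by rw [hh_swap x hxs, h21, neg_zero]
        rw [(map_eq_zero σ).1 h12]; ring
      · exact ⟨hh x d₂ d₁, -hh x d₁ d₁, Or.inl h21, by ring, by linear_combination -hdet⟩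
    · exact ⟨hh x d₂ d₁, -hh x d₁ d₁, Or.inr (neg_ne_zero.2 h11), by ring, by linear_combination -hdet⟩
  refine finish x hxs ⟨c₁ • d₁ + c₂ • d₂, D.add_mem (D.smul_mem _ (bD 0).2) (D.smul_mem _ (bD 1).2),
    fun h => ?_, hann _ fun d' hd' => ?_⟩ ?_
  · have h3 := Fintype.linearIndependent_iff.1 bD.linearIndependent ![c₁, c₂] (by
      rw [Fin.sum_univ_two]
      exact Subtype.ext (by simpa using h))
    rcases hc with hc | hc
    · exact hc (h3 0)
    · exact hc (h3 1)
  · obtain ⟨e₁, e₂, rfl⟩ := hDspan d' hd'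
    have : x * (c₁ • d₁ + c₂ • d₂) * τ (e₁ • d₁ + e₂ • d₂) =
        σ e₁ • (c₁ • (x * d₁ * τ d₁) + c₂ • (x * d₂ * τ d₁)) +
          σ e₂ • (c₁ • (x * d₁ * τ d₂) + c₂ • (x * d₂ * τ d₂)) := by
      rw [map_add, τ_smul O.fd, τ_smul O.fd]
      simp only [Algebra.smul_def]; ring
    rw [this]
    simp only [map_add, map_smul, smul_eq_mul]
    rw [show c₁ * Algebra.trace F L (x * d₁ * τ d₁) + c₂ * Algebra.trace F L (x * d₂ * τ d₁) = 0 from hk1,
      show c₁ * Algebra.trace F L (x * d₁ * τ d₂) + c₂ * Algebra.trace F L (x * d₂ * τ d₂) = 0 from hk2]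
    ring
  · by_contra hc'
    push Not at hc'
    refine hx0 (Subtype.ext ?_)
    have hxA : x ∈ A := ⟨⟨hxs, hc' _ (bD 0).2⟩, hc' _ (bD 1).2⟩
    exact (Submodule.mem_bot _).1 (hW'.inf_eq_bot.le (Submodule.mem_inf.2 ⟨hxA, hx.2⟩))
where
  hskew' : ∀ {a s : L}, a + τ a = 0 → τ s = s → a * s + τ (a * s) = 0 := fun {a s} ha hs => by
    rw [map_mul, hs, ← add_mul, ha, zero_mul]

/-- A member meeting a line. -/
theorem exists_meet : ∃ M e, Meet F β G M e ∧ 0 < finrank F (M ⊓ Lin F L e : Submodule F V) := by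
  obtain ⟨M, hM, hnl⟩ := exists_nonline O
  obtain ⟨φ₀, hφ₀⟩ := exists_retraction O.fd
  haveI : Fintype (F₀ σ) := Fintype.ofFinite _
  obtain ⟨k, dd, hk, hdd, hcoord⟩ := exists_real_coords O.fd
  let Qf : Fin k → M →ₗ[F₀ σ] M →ₗ[F₀ σ] F₀ σ := fun i =>
    LinearMap.mk₂ (F₀ σ) (fun x y => φ₀ (Algebra.trace F L (β (x : V) (y : V) * dd i)))
      (fun x x' y => by simp only [Submodule.coe_add, map_add, LinearMap.add_apply, add_mul])
      (fun c x y => by
        rw [smul_F₀, Submodule.coe_smul, ← algebraMap_smul L (c : F) (x : V), β_smul_left O, mul_assoc,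
          ← Algebra.smul_def, map_smul, ← smul_F₀, map_smul])
      (fun x y y' => by simp only [Submodule.coe_add, map_add, add_mul])
      (fun c x y => by
        rw [smul_F₀, Submodule.coe_smul, ← algebraMap_smul L (c : F) (y : V), β_smul_right O,
          τ_base O.fd, mem_F₀.1 c.2, mul_assoc, ← Algebra.smul_def, map_smul, ← smul_F₀, map_smul])
  haveI : Module.Finite (F₀ σ) M := Module.Finite.trans F M
  obtain ⟨⟨x, hxM⟩, hx0, hxq⟩ := exists_zero' (K := F₀ σ) (by
    rw [finrank_F₀_mul O.fd, mem_finrank O hM, Fintype.card_fin]; omega) Qf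
  have hx0' : x ≠ 0 := fun h => hx0 (Subtype.ext h)
  have hxx : β x x = 0 := by
    refine hcoord _ (mem_ti O hM x hxM x hxM) fun i => ?_
    rw [← hφ₀ _ (fixed_of_trace O.fd (hdd i) (self_fixed O x))]
    exact congrArg Subtype.val (hxq i)
  exact ⟨M, x, ⟨hM, hx0', hxx, hnl x hx0'⟩,
    Module.finrank_pos_iff_exists_ne_zero.2 ⟨⟨x, hxM, mem_lin_self O x⟩,
      fun h => hx0' (congrArg Subtype.val h)⟩⟩

/-- A member meeting a line in a hyperplane. -/
theorem exists_hyper : ∃ M e, Meet F β G M e ∧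
    finrank F (M ⊓ Lin F L e : Submodule F V) + 1 = finrank F L := by
  suffices ∀ t M e, Meet F β G M e → 0 < finrank F (M ⊓ Lin F L e : Submodule F V) →
      finrank F L ≤ finrank F (M ⊓ Lin F L e : Submodule F V) + 1 + t →
      ∃ M e, Meet F β G M e ∧ finrank F (M ⊓ Lin F L e : Submodule F V) + 1 = finrank F L by
    obtain ⟨M, e, P, hp⟩ := exists_meet O
    exact this (finrank F L) M e P hp (by omega)
  intro t
  induction t with
  | zero =>
    intro M e P _ h
    exact ⟨M, e, P, by have := finrank_inf_lt O P; omega⟩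
  | succ t ih =>
    intro M e P hp h
    by_cases hlt : finrank F (M ⊓ Lin F L e : Submodule F V) + 1 < finrank F L
    · obtain ⟨M', e', P', hb⟩ := bigger O P hp hlt
      exact ih M' e' P' (by omega) (by omega)
    · exact ⟨M, e, P, by have := finrank_inf_lt O P; omega⟩

/-- An element of the overgroup acting on an isotropic line as a transvection over the ground field. -/
theorem exists_shear : ∃ (v : V) (η ε : L), v ≠ 0 ∧ β v v = 0 ∧ ε ≠ 0 ∧ η ≠ 0 ∧
    Algebra.trace F L (η * ε) = 0 ∧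
    ∃ g ∈ G, ∀ k : L, g (k • v) = (k + Algebra.trace F L (η * k) • ε) • v := by
  obtain ⟨M, e, P, hj⟩ := exists_hyper O
  obtain ⟨m₀, hm₀, hm₀e⟩ := exists_off O P
  set B := coords F L M e with hBdef
  have hBj : finrank F B = finrank F (M ⊓ Lin F L e : Submodule F V) := finrank_coords P.ne0
  obtain ⟨b₀, hb₀, hb₀0⟩ := Submodule.exists_mem_ne_zero_of_ne_bot (show B ≠ ⊥ from fun h0 => by
    rw [h0, finrank_bot] at hBj
    have := O.fd.prime.two_le
    omega)
  have hsup : (M ⊓ Lin F L e) ⊔ F ∙ m₀ = M := by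
    refine Submodule.eq_of_le_of_finrank_le (sup_le inf_le_left
      ((Submodule.span_singleton_le_iff_mem _ _).2 hm₀)) ?_
    have := finrank_sup_vec O (U := M ⊓ Lin F L e) (fun h => hm₀e h.2)
    rw [mem_finrank O P.mem]
    omega
  have hUβ : ∀ u ∈ M ⊓ Lin F L e, β u e = 0 := fun u hu =>
    beta_lin O P.sing hu.2 (mem_lin_self O e)
  obtain ⟨g, hg, hfix, u, hu, hu0, hgm⟩ : ∃ g ∈ G, (∀ u ∈ M ⊓ Lin F L e, g u = u) ∧
      ∃ u ∈ M ⊓ Lin F L e, u ≠ 0 ∧ g m₀ = m₀ + u := by
    by_cases hm : β m₀ e = 0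
    · obtain ⟨w, hew, hm₀w⟩ := exists_perp_vec O hm₀e
      obtain ⟨g, hg, hgy⟩ := exists_move O P.sing hew b₀
      refine ⟨g, hg, fun u hu => ?_, -(b₀ • e), neg_mem ⟨hb₀, mem_lin_iff.2 ⟨b₀, rfl⟩⟩,
        neg_ne_zero.2 (smul_ne_zero hb₀0 P.ne0), ?_⟩
      · obtain ⟨k, rfl⟩ := mem_lin_iff.1 hu.2
        rw [hgy _ (hUβ _ hu), β_smul_left O, hew, mul_zero, mul_zero, zero_smul, sub_zero]
      · rw [hgy m₀ hm, hm₀w, mul_one, sub_eq_add_neg]
    · set d := β m₀ e with hd
      -- a skew multiplier into the coordinates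
      have hperp : ∀ b ∈ B, Algebra.trace F L (τ b * d) = 0 := fun b hb => trace_perp O P.mem hm₀ hb
      let ν : L →ₗ[F] F := (Algebra.trace F L).comp (LinearMap.mulRight F (τ d))
      have hνB : B = LinearMap.ker ν := by
        refine Submodule.eq_of_le_of_finrank_le (fun b hb => ?_) ?_
        · have h2 : σ (Algebra.trace F L (τ b * d)) = 0 := by rw [hperp b hb, map_zero]
          rw [← trace_τ O.fd, map_mul, ττ O.fd] at h2
          exact h2
        · have h1 := LinearMap.finrank_range_add_finrank_ker ν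
          have h3 : LinearMap.range ν ≠ ⊥ := fun h => by
            refine hm ?_
            have h4 : τ d = 0 := CfsgLib.MaxSub.ExtSymp.eq_zero_of_trace (F := F) fun k => by
              have : ν k ∈ LinearMap.range ν := ⟨k, rfl⟩
              rw [h, Submodule.mem_bot] at this
              exact this
            exact (map_eq_zero τ).1 h4
          have h5 : 0 < finrank F (LinearMap.range ν) :=
            Nat.pos_of_ne_zero fun h => h3 (Submodule.finrank_eq_zero.1 h)
          omega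
      obtain ⟨a₀, ha₀0, ha₀⟩ := exists_skew_unit O.fd
      obtain ⟨a, ha0, ha, had⟩ : ∃ a : L, a ≠ 0 ∧ a + τ a = 0 ∧ a * d ∈ B := by
        obtain ⟨x, hxfix, hxF⟩ : ∃ x : L, τ x = x ∧ x ∉ (⊥ : Subalgebra F L) := by
          by_contra hc
          push Not at hc
          have h1 : Submodule.span F {x : L | τ x = x} ≤ F ∙ (1 : L) := Submodule.span_le.2 fun x hx => by
            obtain ⟨a, rfl⟩ := Algebra.mem_bot.1 (hc x hx)
            exact Submodule.mem_span_singleton.2 ⟨a, (Algebra.algebraMap_eq_smul_one a).symm⟩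
          have h2 := Submodule.finrank_mono h1
          rw [span_real O.fd, finrank_top, finrank_span_singleton (one_ne_zero : (1 : L) ≠ 0)] at h2
          have := O.fd.prime.two_le
          omega
        have hsk : ∀ s, τ s = s → (a₀ * s) + τ (a₀ * s) = 0 := fun s hs => by
          rw [map_mul, hs, ← add_mul, ha₀, zero_mul]
        let f := fun s => ν (a₀ * s * d)
        have hreal : ∀ s, τ s = s → σ (f s) = -f s := fun s hs => by
          show σ (Algebra.trace F L (a₀ * s * d * τ d)) = -Algebra.trace F L (a₀ * s * d * τ d)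
          rw [← trace_τ O.fd, ← map_neg]
          congr 1
          rw [map_mul, map_mul, map_mul, ττ O.fd, hs, show τ a₀ = -a₀ by linear_combination ha₀]
          ring
        by_cases h1 : f 1 = 0
        · refine ⟨a₀, ha₀0, ha₀, ?_⟩
          rw [hνB, LinearMap.mem_ker]
          simpa [f] using h1
        · have hr : σ (f x / f 1) = f x / f 1 := by
            rw [map_div₀, hreal x hxfix, hreal 1 (map_one τ), neg_div_neg_eq]
          set s := x - algebraMap F L (f x / f 1) with hs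
          have hsfix : τ s = s := by rw [hs, map_sub, hxfix, τ_base O.fd, hr]
          have hs0 : s ≠ 0 := fun h => hxF (Algebra.mem_bot.2 ⟨_, (sub_eq_zero.1 h).symm⟩)
          refine ⟨a₀ * s, mul_ne_zero ha₀0 hs0, hsk s hsfix, ?_⟩
          rw [hνB, LinearMap.mem_ker]
          have : a₀ * s * d = a₀ * x * d - (f x / f 1) • (a₀ * 1 * d) := by
            rw [hs, Algebra.smul_def]; ring
          rw [this, map_sub, map_smul, smul_eq_mul]
          show f x - f x / f 1 * f 1 = 0
          rw [div_mul_cancel₀ _ h1, sub_self]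
      obtain ⟨g, hg, hgy⟩ := O.tv a e P.sing ha
      refine ⟨g, hg, fun u hu => by rw [hgy, hUβ u hu, mul_zero, zero_smul, add_zero], (a * d) • e,
        ⟨had, mem_lin_iff.2 ⟨_, rfl⟩⟩, smul_ne_zero (mul_ne_zero ha0 hm) P.ne0, hgy m₀⟩
  -- pull back to a line
  obtain ⟨g', hg', v, hv0, hv, hMv⟩ := P.mem
  let ι' : L →ₗ[F] V := g'.toLinearMap ∘ₗ ((LinearMap.id : L →ₗ[L] L).smulRight v).restrictScalars F
  have hι : Function.Injective ι' := fun a b h => smul_left_injective L hv0 (g'.injective h)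
  have hιM : ∀ y, y ∈ M ↔ ∃ k, ι' k = y := fun y => by
    rw [hMv]
    constructor
    · rintro ⟨z, hz, rfl⟩
      obtain ⟨k, rfl⟩ := mem_lin_iff.1 hz
      exact ⟨k, rfl⟩
    · rintro ⟨k, rfl⟩
      exact ⟨k • v, mem_lin_iff.2 ⟨k, rfl⟩, rfl⟩
  obtain ⟨ε, hε⟩ := (hιM u).1 hu.1
  obtain ⟨k₀, hk₀⟩ := (hιM m₀).1 hm₀
  have hdec : ∀ k : L, ∃ z ∈ M ⊓ Lin F L e, ∃ c : F, ι' k = z + c • m₀ := fun k => by
    have := hsup.ge ((hιM _).2 ⟨k, rfl⟩)
    obtain ⟨z, hz, w, hw, hzw⟩ := Submodule.mem_sup.1 this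
    obtain ⟨c, rfl⟩ := Submodule.mem_span_singleton.1 hw
    exact ⟨z, hz, c, hzw.symm⟩
  choose z hz c hc using hdec
  have huniq : ∀ (z₁ : V), z₁ ∈ M ⊓ Lin F L e → ∀ (z₂ : V), z₂ ∈ M ⊓ Lin F L e → ∀ c₁ c₂ : F,
      z₁ + c₁ • m₀ = z₂ + c₂ • m₀ → c₁ = c₂ := fun z₁ h₁ z₂ h₂ c₁ c₂ h => by
    by_contra hne
    refine hm₀e ?_
    have h3 : (c₁ - c₂) • m₀ = z₂ - z₁ := by
      rw [sub_smul, sub_eq_sub_iff_add_eq_add, add_comm, h]
    have h4 := (Lin F L e).smul_mem (c₁ - c₂)⁻¹ ((Lin F L e).sub_mem h₂.2 h₁.2)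
    rwa [← h3, smul_smul, inv_mul_cancel₀ (sub_ne_zero.2 hne), one_smul] at h4
  let cl : L →ₗ[F] F :=
    { toFun := c
      map_add' := fun a b => huniq _ (hz (a + b)) _ (add_mem (hz a) (hz b)) _ _ (by
        rw [← hc, map_add, hc, hc, add_smul]; abel)
      map_smul' := fun s a => huniq _ (hz (s • a)) _ (Submodule.smul_mem _ s (hz a)) _ _ (by
        rw [← hc, map_smul, hc, smul_add, RingHom.id_apply, smul_eq_mul, mul_smul]) }
  set η := ((Algebra.traceForm F L).toDual (traceForm_nondegenerate F L)).symm cl with hη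
  have hηk : ∀ k, Algebra.trace F L (η * k) = c k := fun k => by
    rw [← Algebra.traceForm_apply, hη]
    exact LinearMap.BilinForm.apply_toDual_symm_apply (hB := traceForm_nondegenerate F L) cl k
  have hε0 : ε ≠ 0 := fun h => hu0 (by rw [← hε, h, map_zero])
  refine ⟨v, η, ε, hv0, hv, hε0, fun h => ?_, ?_, g'⁻¹ * g * g', mul_mem (mul_mem (inv_mem hg') hg) hg',
    fun k => ?_⟩
  · have h1 : c k₀ = 1 := huniq _ (hz k₀) 0 (zero_mem _) _ _ (by
      rw [← hc, hk₀, zero_add, one_smul])
    have := hηk k₀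
    rw [h, zero_mul, map_zero, h1] at this
    exact zero_ne_one this
  · rw [hηk]
    exact huniq _ (hz ε) u hu _ _ (by rw [← hc, hε, zero_smul, add_zero])
  · show g'.symm (g (g' (k • v))) = _
    have h1 : g (g' (k • v)) = g' ((k + Algebra.trace F L (η * k) • ε) • v) := by
      show g (ι' k) = ι' (k + Algebra.trace F L (η * k) • ε)
      rw [map_add, map_smul, hε, hηk, hc, map_add, map_smul, hfix _ (hz k), hgm, smul_add, add_assoc]
    rw [h1, LinearEquiv.symm_apply_apply]

end

end CfsgLib.MaxSub.ExtUnitary
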