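/-
The weights of the torus on the hermitian forms of a line.
-/
import Cfsg.Agent.Lib.MaxSub.ExtUnitary.Field
import Mathlib.FieldTheory.Finite.Basic
import Mathlib.Algebra.Ring.Subring.Basic

set_option autoImplicit false
set_option maxHeartbeats 400000
set_option linter.unusedSectionVars false
set_option linter.style.haveILetI false

namespace CfsgLib.MaxSub.ExtUnitary

open Module

/-- Sums of two powers. -/
theorem two_pow {p x y B : ℕ} (hp : 2 ≤ p) (hB : B ≠ 0) (hxy : x ≠ y) (h : p ^ x + p ^ y = 1 + p ^ B) :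
    (x = 0 ∧ y = B) ∨ (x = B ∧ y = 0) := by
  have hd : p ∣ p ^ B := dvd_pow_self p hB
  rcases eq_or_ne x 0 with rfl | hx
  · exact Or.inl ⟨rfl, Nat.pow_right_injective hp (show p ^ y = p ^ B by rw [pow_zero] at h; omega)⟩
  rcases eq_or_ne y 0 with rfl | hy
  · exact Or.inr ⟨Nat.pow_right_injective hp (show p ^ x = p ^ B by rw [pow_zero] at h; omega), rfl⟩
  exfalso
  have h1 : p ∣ 1 + p ^ B := h ▸ dvd_add (dvd_pow_self p hx) (dvd_pow_self p hy)
  have := Nat.eq_one_of_dvd_one ((Nat.dvd_add_left hd).1 h1)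
  omega

theorem two_pow_lt {p n x y : ℕ} (hp : 2 ≤ p) (hn : 3 ≤ n) (hx : x < n) (hy : y < n) (hxy : x ≠ y) :
    p ^ x + p ^ y + 1 < p ^ n := by
  have key : ∀ x y, x < y → y < n → p ^ x + p ^ y + 1 < p ^ n := fun x y hxy hy => by
    obtain ⟨m, rfl⟩ : ∃ m, n = m + 2 := ⟨n - 2, by omega⟩
    have h1 : p ^ x ≤ p ^ m := Nat.pow_le_pow_right (by omega) (by omega)
    have h2 : p ^ y ≤ p ^ (m + 1) := Nat.pow_le_pow_right (by omega) (by omega)
    have h3 : p ^ 1 ≤ p ^ m := Nat.pow_le_pow_right (by omega) (by omega)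
    rw [pow_one] at h3
    have h4 : p ^ (m + 1) = p ^ m * p := pow_succ _ _
    have h5 : p ^ (m + 2) = p ^ m * p * p := by ring
    nlinarith [Nat.mul_le_mul (Nat.mul_le_mul (le_refl (p ^ m)) hp) hp]
  rcases lt_or_gt_of_ne hxy with h | h
  · exact key x y h hy
  · rw [add_comm (p ^ x)]; exact key y x h hx

variable {F L : Type*} [Field F] [Fintype F] [Field L] [Algebra F L] [FiniteDimensional F L]
  {q : ℕ} {σ : F →+* F} {τ : L →+* L}

variable (F L) in
/-- Representatives of the classes of the powers. -/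
abbrev J : Type := Fin ((finrank F L - 1) / 2)

variable (E : FD q σ τ) {p f : ℕ}
include E

/-- The exponents of the real weights are distinct. -/
theorem digit (hp : p.Prime) (hqp : q = p ^ f) (j k : J F L) {t : ℕ}
    (h : ∀ x : L, τ x = x →
      (x * phi F L (j + 1) x) ^ p ^ t = x * phi F L (k + 1) x) :
    j = k ∧ finrank F L * f ∣ t := by
  classical
  haveI : Finite L := Module.finite_of_finite F
  haveI : Fintype L := Fintype.ofFinite L
  set r := finrank F L with hr
  have hq := two_le_q E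
  have hf : 0 < f := by
    rcases Nat.eq_zero_or_pos f with h0 | h0
    · rw [h0, pow_zero] at hqp; omega
    · exact h0
  have hp2 := hp.two_le
  have hr3 : 3 ≤ r := by
    have := E.prime.two_le
    obtain ⟨m, hm⟩ := E.odd
    omega
  set n := r * f with hn
  have hn3 : 3 ≤ n := le_trans hr3 (Nat.le_mul_of_pos_right r hf)
  have hQ : q ^ r = p ^ n := by rw [hqp, ← pow_mul, mul_comm]
  have hcardL : Fintype.card L = p ^ n * p ^ n := by
    rw [Module.card_eq_pow_finrank (K := F) (V := L), E.card, ← pow_mul, ← hr, mul_comm 2 r, pow_mul,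
      hQ, sq]
  have hcu : Fintype.card Lˣ = p ^ n * p ^ n - 1 := by rw [Fintype.card_units, hcardL]
  obtain ⟨z, hz⟩ := IsCyclic.exists_generator (α := Lˣ)
  have hoz : orderOf z = p ^ n * p ^ n - 1 := by
    rw [orderOf_eq_card_of_forall_mem_zpowers hz, Nat.card_eq_fintype_card, hcu]
  have hpn : 2 ≤ p ^ n := hp2.trans (Nat.le_self_pow (by omega) p)
  have hmul : p ^ n * p ^ n - 1 = (p ^ n + 1) * (p ^ n - 1) := by
    rw [← Nat.sq_sub_sq, one_pow, sq]
  obtain ⟨y, hy⟩ : ∃ y, y = z ^ (p ^ n + 1) := ⟨_, rfl⟩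
  have hoy : orderOf y = p ^ n - 1 := by
    rw [hy, orderOf_pow' z (by omega), hoz, hmul,
      Nat.gcd_eq_right (dvd_mul_right _ _), Nat.mul_div_cancel_left _ (by omega)]
  have hyQ : y ^ p ^ n = y := by
    conv_rhs => rw [← pow_one y]
    rw [pow_eq_pow_iff_modEq, hoy]
    exact (Nat.modEq_iff_dvd' (by omega)).2 (dvd_refl _) |>.symm
  have hyreal : τ (y : L) = y := by rw [E.τq, hQ, ← Units.val_pow_eq_pow_val, hyQ]
  have hper : ∀ a, y ^ p ^ a = y ^ p ^ (a % n) := by
    intro a
    conv_lhs => rw [← Nat.mod_add_div a n]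
    induction a / n with
    | zero => rw [mul_zero, add_zero]
    | succ m ih =>
      rw [Nat.mul_succ, ← add_assoc, pow_add p, mul_comm, pow_mul, hyQ, ih]
  have hphi : ∀ i : ℕ, phi F L i (y : L) = ((y ^ p ^ (2 * f * i) : Lˣ) : L) := fun i => by
    rw [phi_apply, Units.val_pow_eq_pow_val, E.card, hqp, ← pow_mul, ← pow_mul, mul_comm 2 f]
    ring_nf
  have h1 := h _ hyreal
  rw [hphi, hphi, ← Units.val_mul, ← Units.val_mul, ← Units.val_pow_eq_pow_val, Units.val_inj,
    mul_pow, ← pow_mul y, ← pow_add p, hper t, hper (2 * f * (↑j + 1) + t), hper (2 * f * (↑k + 1)),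
    ← pow_add] at h1
  nth_rw 2 [← pow_one y] at h1
  rw [← pow_add, pow_eq_pow_iff_modEq, hoy] at h1
  have hndvd : ∀ i : J F L, (2 * f * (↑i + 1)) % n ≠ 0 := fun i h0 => by
    have h0' : f * r ∣ f * (2 * (↑i + 1)) := by
      have := Nat.dvd_of_mod_eq_zero h0
      rw [hn] at this
      convert this using 1 <;> ring
    have := Nat.le_of_dvd (by omega) (Nat.dvd_of_mul_dvd_mul_left hf h0')
    have := i.2
    omega
  have hne : t % n ≠ (2 * f * (↑j + 1) + t) % n := fun h0 => hndvd j (by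
    have h' : 2 * f * (↑j + 1) + t ≡ 0 + t [MOD n] := by rw [zero_add]; exact h0.symm
    exact Nat.ModEq.add_right_cancel' t h')
  have hlt1 := two_pow_lt hp2 hn3 (Nat.mod_lt t (by omega))
    (Nat.mod_lt (2 * f * (↑j + 1) + t) (by omega)) hne
  have hlt2 := two_pow_lt (x := 0) hp2 hn3 (by omega) (Nat.mod_lt (2 * f * (↑k + 1)) (by omega))
    (Ne.symm (hndvd k))
  rw [pow_zero] at hlt2
  have heq := Nat.ModEq.eq_of_lt_of_lt h1 (by omega) (by omega)
  rcases two_pow hp2 (hndvd k) hne heq with ⟨e1, e2⟩ | ⟨e1, e2⟩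
  · refine ⟨?_, Nat.dvd_of_mod_eq_zero e1⟩
    have h2 : 2 * f * (↑j + 1) ≡ 2 * f * (↑k + 1) [MOD f * r] := by
      rw [mul_comm f r, ← hn]
      show _ % n = _ % n
      rw [← e2, Nat.add_mod, e1, add_zero, Nat.mod_mod]
    rw [show 2 * f * (↑j + 1 : ℕ) = f * (2 * (↑j + 1)) by ring,
      show 2 * f * (↑k + 1 : ℕ) = f * (2 * (↑k + 1)) by ring] at h2
    have h3 := Nat.ModEq.mul_left_cancel' hf.ne' h2
    have := Nat.ModEq.eq_of_lt_of_lt h3 (by have := j.2; omega) (by have := k.2; omega)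
    exact Fin.ext (by omega)
  · exfalso
    have h2 : f * (2 * (↑j + 1)) + f * (2 * (↑k + 1)) ≡ 0 [MOD f * r] := by
      rw [mul_comm f r, ← hn, show f * (2 * (↑j + 1 : ℕ)) = 2 * f * (↑j + 1) by ring,
        show f * (2 * (↑k + 1 : ℕ)) = 2 * f * (↑k + 1) by ring]
      show _ % n = 0 % n
      rw [Nat.add_mod, ← e1, ← Nat.add_mod, e2, Nat.zero_mod]
    rw [← mul_add, Nat.modEq_zero_iff_dvd] at h2
    have h3 : r ∣ 2 * ((↑j + 1) + (↑k + 1)) := by
      rw [mul_add]; exact Nat.dvd_of_mul_dvd_mul_left hf h2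
    rcases (Nat.Prime.dvd_mul E.prime).1 h3 with h4 | h4
    · have := Nat.le_of_dvd (by omega) h4
      omega
    · have := Nat.le_of_dvd (by omega) h4
      have := j.2; have := k.2
      omega

/-- A ring containing the weights is everything. -/
theorem weights_full {μ : L} (hμ : μ * τ μ = 1) (hμ2 : μ * μ ∉ (⊥ : Subalgebra F L))
    (R : Subring (J F L → L))
    (hD : ∀ x : L, τ x = x → (fun i : J F L => x * phi F L (i + 1) x) ∈ R)
    (hW : (fun i : J F L => μ * phi F L (i + 1) (τ μ)) ∈ R) (w : J F L → L) : w ∈ R := by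
  classical
  haveI : Finite L := Module.finite_of_finite F
  haveI : Fintype L := Fintype.ofFinite L
  haveI hpp := CharP.char_is_prime F (ringChar F)
  haveI : Fact (ringChar F).Prime := ⟨hpp⟩
  obtain ⟨e, he, hFe⟩ := FiniteField.card F (ringChar F)
  obtain ⟨p, f, hp, hqp⟩ : ∃ p f, p = ringChar F ∧ q = p ^ f := by
    rw [E.card] at hFe
    obtain ⟨f, -, hf⟩ := (Nat.dvd_prime_pow hpp).1 (hFe ▸ dvd_pow_self q two_ne_zero)
    exact ⟨_, f, rfl, hf⟩
  have hp' : p.Prime := hp ▸ hpp
  haveI : CharP L p := hp ▸ charP_of_injective_algebraMap (algebraMap F L).injective _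
  set n := finrank F L * f with hn
  have hQ : q ^ finrank F L = p ^ n := by rw [hqp, ← pow_mul, mul_comm]
  have hcardL : Fintype.card L = p ^ (2 * n) := by
    rw [Module.card_eq_pow_finrank (K := F) (V := L), E.card, ← pow_mul, mul_comm 2 (finrank F L),
      pow_mul, hQ, ← pow_mul, mul_comm]
  have hW0 : ∀ i : J F L, τ (μ * phi F L (i + 1) (τ μ)) ≠ μ * phi F L (i + 1) (τ μ) := fun i h => by
    rw [map_mul, τ_phi E, ττ E] at h
    have h1 : μ * μ = phi F L (i + 1) (μ * μ) := by
      have e1 := congrArg (fun y => μ * phi F L (↑i + 1) μ * y) h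
      have e2 : phi F L (↑i + 1) μ * phi F L (↑i + 1) (τ μ) = 1 := by rw [← map_mul, hμ, map_one]
      rw [map_mul]
      linear_combination (norm := ring_nf) -e1 + phi F L (↑i + 1) μ * phi F L (↑i + 1) μ * hμ - μ * μ * e2
    refine hμ2 (bot_of_fixed E.prime (fun hd => ?_) h1.symm)
    have := Nat.le_of_dvd (by omega) hd
    have := i.2
    omega
  have hproj : ∀ (i : J F L) (y : L), ∃ w ∈ R, w i = y := by
    intro i
    let S : Subring L := R.map (Pi.evalRingHom (fun _ => L) i)
    haveI : Fintype S := Fintype.ofFinite S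
    letI : Field S := Fintype.fieldOfDomain S
    obtain ⟨d, hd, hSd⟩ : ∃ d ≤ 2 * n, Nat.card S = p ^ d := by
      refine (Nat.dvd_prime_pow hp').1 ?_
      rw [← hcardL, ← Nat.card_eq_fintype_card]
      exact AddSubgroup.card_addSubgroup_dvd_card S.toAddSubgroup
    have hfix : ∀ y ∈ S, y ^ p ^ d = y := fun y hy => by
      have h1 := FiniteField.pow_card (⟨y, hy⟩ : S)
      rw [← Nat.card_eq_fintype_card, hSd] at h1
      exact congrArg Subtype.val h1
    have hd1 : n ∣ d := (digit E hp' hqp i i (t := d) fun x hx => hfix _ ⟨_, hD x hx, rfl⟩).2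
    have hd2 : d ≠ n := fun h => hW0 i (by
      rw [E.τq, hQ, ← h]; exact hfix _ ⟨_, hW, rfl⟩)
    have hd0 : d ≠ 0 := fun h => by
      rw [h, pow_zero, Nat.card_eq_one_iff_unique] at hSd
      exact zero_ne_one (α := S) (hSd.1.elim _ _)
    have hd3 : d = 2 * n := by
      obtain ⟨m, rfl⟩ := hd1
      have : m ≠ 0 := fun h => hd0 (by rw [h, mul_zero])
      have : m ≠ 1 := fun h => hd2 (by rw [h, mul_one])
      have hnpos : 0 < n := Nat.pos_of_ne_zero fun h => hd0 (by rw [h, zero_mul])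
      have : m ≤ 2 := Nat.le_of_mul_le_mul_left (by linarith) hnpos
      have : m = 2 := by omega
      rw [this, mul_comm]
    have htop : (S : Set L) = Set.univ := Set.eq_of_subset_of_ncard_le (Set.subset_univ _) (by
      rw [Set.ncard_univ, ← Nat.card_coe_set_eq, Nat.card_eq_fintype_card (α := L), hcardL, ← hd3]
      exact hSd.ge)
    intro y
    obtain ⟨w, hw, rfl⟩ := (htop.ge (Set.mem_univ y) : y ∈ S)
    exact ⟨w, hw, rfl⟩
  have hsep : ∀ i k : J F L, i ≠ k → ∃ w ∈ R, w k = 0 ∧ w i ≠ 0 := by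
    intro i k hik
    by_contra hc
    push Not at hc
    have huniq : ∀ a ∈ R, ∀ b ∈ R, a k = b k → a i = b i := fun a ha b hb h =>
      sub_eq_zero.1 (hc (a - b) (R.sub_mem ha hb) (sub_eq_zero.2 h))
    choose pick hpick using hproj k
    let ψ : L →+* L :=
      { toFun := fun y => pick y i
        map_one' := huniq _ (hpick 1).1 1 R.one_mem (hpick 1).2
        map_mul' := fun a b => huniq _ (hpick _).1 (pick a * pick b)
          (R.mul_mem (hpick a).1 (hpick b).1)
          (by rw [Pi.mul_apply, (hpick _).2, (hpick a).2, (hpick b).2])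
        map_zero' := huniq _ (hpick 0).1 0 R.zero_mem (hpick 0).2
        map_add' := fun a b => huniq _ (hpick _).1 (pick a + pick b)
          (R.add_mem (hpick a).1 (hpick b).1)
          (by rw [Pi.add_apply, (hpick _).2, (hpick a).2, (hpick b).2]) }
    haveI : Fact p.Prime := ⟨hp'⟩
    letI : Algebra (ZMod p) L := ZMod.algebra L p
    have hψc : ψ.comp (algebraMap (ZMod p) L) = algebraMap (ZMod p) L := Subsingleton.elim _ _
    let ψ' : L →ₐ[ZMod p] L := { ψ with commutes' := fun c => RingHom.congr_fun hψc c }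
    obtain ⟨t, ht⟩ := (FiniteField.bijective_frobeniusAlgHom_pow (ZMod p) L).2 ψ'
    refine hik (digit E hp' hqp k i (t := (t : ℕ)) fun x hx => ?_).1.symm
    have h1 : ψ' (x * phi F L (k + 1) x) = x * phi F L (i + 1) x :=
      huniq _ (hpick _).1 _ (hD x hx) (hpick _).2
    rw [← h1, ← ht]
    simp only [AlgHom.coe_pow, FiniteField.coe_frobeniusAlgHom, pow_iterate, ZMod.card]
  have hsingle : ∀ (i : J F L) (y : L), Pi.single i y ∈ R := by
    intro i y
    choose ws hws using fun k : {k // i ≠ k} => hsep i k.1 k.2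
    obtain ⟨a, ha, rfl⟩ := hproj i y
    have hmem : a * ∏ k, ws k ^ (Fintype.card L - 1) ∈ R :=
      R.mul_mem ha (Subring.prod_mem R fun k _ => R.pow_mem (hws k).1 _)
    convert hmem using 1
    funext l
    rw [Pi.mul_apply, Finset.prod_apply]
    rcases eq_or_ne i l with rfl | hl
    · rw [Pi.single_eq_same, Finset.prod_eq_one fun k _ => ?_, mul_one]
      rw [Pi.pow_apply]
      exact FiniteField.pow_card_sub_one_eq_one _ (hws k).2.2
    · rw [Pi.single_eq_of_ne hl.symm, Finset.prod_eq_zero (Finset.mem_univ ⟨l, hl⟩) ?_, mul_zero]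
      rw [Pi.pow_apply, (hws ⟨l, hl⟩).2.1, zero_pow]
      have := Fintype.one_lt_card (α := L)
      omega
  rw [← Finset.univ_sum_single w]
  exact Subring.sum_mem R fun i _ => hsingle i _

end CfsgLib.MaxSub.ExtUnitary
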