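/-
An overgroup contains all transvections over the ground field.
-/
import Cfsg.Agent.Lib.MaxSub.ExtUnitary.Meet
import Cfsg.Agent.Lib.MaxSub.ExtUnitary.Weights

set_option autoImplicit false
set_option maxHeartbeats 400000
set_option linter.unusedSectionVars false
set_option linter.style.haveILetI false

namespace CfsgLib.MaxSub.ExtUnitary

open Module
open CfsgLib.MaxSub.ExtLin (Lin mem_lin_iff finrank_lin)

variable {F L V : Type*} [Field F] [Fintype F] [Field L] [Algebra F L] [FiniteDimensional F L]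
  [AddCommGroup V] [Module F V] [Module L V] [IsScalarTower F L V] [FiniteDimensional F V]
  {q : ℕ} {σ : F →+* F} {τ : L →+* L} {β : V →ₗ[L] V →ₛₗ[τ] L} {μ : L}
  {G : Subgroup (V ≃ₗ[F] V)}

/-- The root element of a map on the coordinates of a line is in the group. -/
def InQ (β : V →ₗ[L] V →ₛₗ[τ] L) (G : Subgroup (V ≃ₗ[F] V)) (v : V) (A : L → L) : Prop :=
  ∃ g ∈ G, ∀ y, g y = y + A (β y v) • v

variable (F) in
/-- The map of a pair. -/
noncomputable def Pf (τ : L →+* L) (u w : L) (x : L) : L :=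
  Algebra.trace F L (x * τ w) • u - Algebra.trace F L (x * τ u) • w

variable (F) in
/-- The coefficients of a pair. -/
def coef (τ : L →+* L) (u w : L) : J F L → L :=
  fun i => u * phi F L (i + 1) (τ w) - w * phi F L (i + 1) (τ u)

variable (F) in
/-- The map of a vector of coefficients. -/
noncomputable def Ac (τ : L →+* L) (c : J F L → L) (x : L) : L :=
  ∑ i, (c i * phi F L (i + 1) x - phi F L (finrank F L - (i + 1)) (τ (c i) * x))

omit [Fintype F] [FiniteDimensional F L] in
theorem split_sum {M : Type*} [AddCommMonoid M] (f : ℕ → M) (s : ℕ) :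
    ∑ k ∈ Finset.range (s + s + 1), f k =
      f 0 + ∑ i : Fin s, (f (i + 1) + f (s + s + 1 - (i + 1))) := by
  rw [Finset.sum_range_succ', add_comm, Finset.sum_range_add]
  congr 1
  rw [Finset.sum_add_distrib, Finset.sum_range, Finset.sum_range]
  congr 1
  rw [← Equiv.sum_comp Fin.revPerm]
  refine Finset.sum_congr rfl fun i _ => ?_
  rw [Fin.revPerm_apply, Fin.val_rev]
  congr 1
  have := i.2
  omega

theorem Ac_add (c c' : J F L → L) (x : L) : Ac F τ (c + c') x = Ac F τ c x + Ac F τ c' x := by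
  simp only [Ac, ← Finset.sum_add_distrib, Pi.add_apply, map_add, add_mul]
  exact Finset.sum_congr rfl fun i _ => by ring

section

variable (E : FD q σ τ)
include E

theorem Pf_expand (u w x : L) : Pf F τ u w x = (u * τ w - w * τ u) * x + Ac F τ (coef F τ u w) x := by
  obtain ⟨s, hs⟩ : ∃ s, finrank F L = s + s + 1 := by
    obtain ⟨m, hm⟩ := E.odd
    exact ⟨m, by omega⟩
  have hJ : (finrank F L - 1) / 2 = s := by omega
  have hexp : ∀ y z : L, Algebra.trace F L y • z = ∑ k ∈ Finset.range (finrank F L), phi F L k y * z := by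
    intro y z
    rw [Algebra.smul_def, trace_sum, Finset.sum_range (fun k => phi F L k y * z), Finset.sum_mul]
  rw [Pf, hexp, hexp, ← Finset.sum_sub_distrib, hs, split_sum]
  congr 1
  · simp only [phi_zero]; ring
  · refine Fintype.sum_equiv (finCongr hJ.symm) _ _ fun i => ?_
    have hi : (i : ℕ) + 1 ≤ finrank F L := by have := i.2; omega
    have hk : ∀ z, phi F L (finrank F L - (i + 1)) (phi F L (i + 1) z) = z := fun z => by
      rw [phi_phi, Nat.sub_add_cancel hi, phi_rank]
    rw [← hs]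
    simp only [coef, finCongr_apply, Fin.val_cast, map_sub, map_mul, τ_phi E, ττ E, hk]
    ring

theorem scalar_skew (u w : L) : (u * τ w - w * τ u) + τ (u * τ w - w * τ u) = 0 := by
  rw [map_sub, map_mul, map_mul, ττ E, ττ E]; ring

theorem Ac_scale (lam : L) (c : J F L → L) (x : L) :
    Ac F τ (fun i => lam * phi F L (i + 1) (τ lam) * c i) x = lam * Ac F τ c (τ lam * x) := by
  simp only [Ac, Finset.mul_sum]
  refine Finset.sum_congr rfl fun i _ => ?_
  have hi : (i : ℕ) + 1 ≤ finrank F L := by have := i.2; omega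
  have hk : ∀ z, phi F L (finrank F L - (i + 1)) (phi F L (i + 1) z) = z := fun z => by
    rw [phi_phi, Nat.sub_add_cancel hi, phi_rank]
  simp only [map_mul, τ_phi E, ττ E, hk]
  ring

end

section

variable (O : EU q σ τ β μ G)
include O

theorem inQ_add {v : V} (hv : β v v = 0) {A A' : L → L} (h : InQ β G v A) (h' : InQ β G v A') :
    InQ β G v fun x => A x + A' x := by
  obtain ⟨g, hg, e⟩ := h
  obtain ⟨g', hg', e'⟩ := h'
  refine ⟨g * g', mul_mem hg hg', fun y => ?_⟩
  show g (g' y) = _
  rw [e, e', map_add, LinearMap.add_apply, β_smul_left O, hv, mul_zero, add_zero, add_smul]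
  abel

theorem inQ_neg {v : V} (hv : β v v = 0) {A : L → L} (h : InQ β G v A) :
    InQ β G v fun x => -A x := by
  obtain ⟨g, hg, e⟩ := h
  refine ⟨g⁻¹, inv_mem hg, fun y => g.injective ?_⟩
  show g (g.symm y) = _
  rw [g.apply_symm_apply, e, map_add, LinearMap.add_apply, β_smul_left O, hv, mul_zero, add_zero,
    neg_smul]
  abel

theorem inQ_skew {v : V} (hv : β v v = 0) {a : L} (ha : a + τ a = 0) :
    InQ β G v fun x => a * x := O.tv a v hv ha

theorem beta_inv {v : V} {g : V ≃ₗ[F] V} (hg : g ∈ G) {c : L} {w : V}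
    (hgv : ∀ k : L, g (k • v) = (k * c) • w) (y : V) : β (g.symm y) v = τ c * β y w := by
  refine sub_eq_zero.1 (CfsgLib.MaxSub.ExtSymp.eq_zero_of_trace (F := F) fun k => ?_)
  have h := O.iso g hg (g.symm y) (τ k • v)
  rw [g.apply_symm_apply, hgv, β_smul_right O, β_smul_right O, map_mul τ, ττ O.fd] at h
  rw [mul_sub, map_sub, sub_eq_zero, ← h]
  congr 1; ring

theorem inQ_conj {v : V} {A : L → L} (h : InQ β G v A) {g : V ≃ₗ[F] V} (hg : g ∈ G) {lam : L}
    (hgv : ∀ k : L, g (k • v) = (lam * k) • v) : InQ β G v fun x => lam * A (τ lam * x) := by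
  obtain ⟨t, ht, e⟩ := h
  refine ⟨g * t * g⁻¹, mul_mem (mul_mem hg ht) (inv_mem hg), fun y => ?_⟩
  show g (t (g.symm y)) = _
  rw [e, map_add, g.apply_symm_apply, hgv, beta_inv O hg (fun k => by rw [hgv k, mul_comm]) y]

/-- All maps of pairs at one line. -/
theorem exists_full : ∃ v : V, v ≠ 0 ∧ β v v = 0 ∧ ∀ u w : L, InQ β G v (Pf F τ u w) := by
  classical
  obtain ⟨v, η, ε, hv0, hv, hε, hη, hηε, h, hh, hψ⟩ := exists_shear O
  refine ⟨v, hv0, hv, ?_⟩
  obtain ⟨a, ha, hau⟩ : ∃ a : L, a + τ a = 0 ∧ ∀ c : F, a * τ η ≠ c • ε := by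
    by_contra hc
    push Not at hc
    obtain ⟨a₀, ha₀0, ha₀⟩ := exists_skew_unit O.fd
    have hle : Submodule.span F {x : L | τ x = x} ≤ F ∙ (ε / (a₀ * τ η)) := Submodule.span_le.2 fun s hs => by
      obtain ⟨c, hcs⟩ := hc (a₀ * s) (by rw [map_mul, show τ s = s from hs, ← add_mul, ha₀, zero_mul])
      refine Submodule.mem_span_singleton.2 ⟨c, ?_⟩
      have hne : a₀ * τ η ≠ 0 := mul_ne_zero ha₀0 ((map_ne_zero τ).2 hη)
      rw [← smul_div_assoc, ← hcs, div_eq_iff hne]
      ring
    have h2 := Submodule.finrank_mono hle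
    rw [span_real O.fd, finrank_top] at h2
    have h3 := (Submodule.finrank_mono (le_refl (F ∙ (ε / (a₀ * τ η))))).trans
      (finrank_span_le_card ({ε / (a₀ * τ η)} : Set L))
    simp only [Set.toFinset_singleton, Finset.card_singleton] at h3
    have := O.fd.prime.two_le
    omega
  set c₁ := Algebra.trace F L (η * a * τ η) with hc₁
  have hc₁s : c₁ + σ c₁ = 0 := by
    rw [hc₁, ← trace_τ O.fd, ← map_add, map_mul, map_mul, ττ O.fd,
      show τ a = -a by linear_combination ha, show η * a * τ η + τ η * -a * η = 0 by ring, map_zero]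
  obtain ⟨l, hl⟩ := exists_diff O.fd hc₁s
  set u₁ := a * τ η + l • ε with hu₁
  have hu₁ε : ∀ c : F, u₁ ≠ c • ε := fun c hc => hau (c - l) (by
    rw [sub_smul, ← hc, hu₁, add_sub_cancel_right])
  have hbase : InQ β G v (Pf F τ u₁ ε) := by
    obtain ⟨t, ht, hty⟩ := O.tv a v hv ha
    refine ⟨h * t * h⁻¹ * t⁻¹, mul_mem (mul_mem (mul_mem hh ht) (inv_mem hh)) (inv_mem ht), fun y => ?_⟩
    set x := β y v with hx
    have hti : t.symm y = y - (a * x) • v := by
      apply t.injective
      rw [t.apply_symm_apply, hty, map_sub, LinearMap.sub_apply, β_smul_left O, hv, mul_zero, sub_zero,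
        sub_add_cancel]
    have hxi : β (y - (a * x) • v) v = x := by
      rw [map_sub, LinearMap.sub_apply, β_smul_left O, hv, mul_zero, sub_zero]
    set y' := y - (a * x) • v with hy'
    have hinv : β (h.symm y') v = x + Algebra.trace F L (x * τ ε) • τ η := by
      refine sub_eq_zero.1 (CfsgLib.MaxSub.ExtSymp.eq_zero_of_trace (F := F) fun k => ?_)
      have h1 := O.iso h hh (h.symm y') (τ k • v)
      rw [h.apply_symm_apply, hψ, β_smul_right O, β_smul_right O, hxi, map_add, τ_smul O.fd, ττ O.fd,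
        add_mul, smul_mul_assoc, map_add, map_smul, smul_eq_mul, ← trace_τ O.fd, map_mul τ, ττ O.fd] at h1
      rw [mul_sub, map_sub, sub_eq_zero, ← h1, mul_add, map_add, mul_smul_comm, map_smul, smul_eq_mul,
        mul_comm k (τ η), mul_comm (τ ε) x]
      ring
    show h (t (h.symm (t.symm y))) = _
    rw [hti, hty, hinv, map_add, h.apply_symm_apply, hψ, hy']
    have hTa : Algebra.trace F L (η * (a * x)) = -Algebra.trace F L (x * τ (a * τ η)) := by
      rw [← map_neg, map_mul τ, ττ O.fd, show τ a = -a by linear_combination ha]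
      congr 1; ring
    have hval : a * (x + Algebra.trace F L (x * τ ε) • τ η) +
        Algebra.trace F L (η * (a * (x + Algebra.trace F L (x * τ ε) • τ η))) • ε =
        a * x + Pf F τ u₁ ε x := by
      rw [Pf, hu₁, mul_add, mul_add, map_add, mul_smul_comm, mul_smul_comm, map_smul, smul_eq_mul,
        hTa, map_add (τ), τ_smul O.fd, mul_add x, map_add, mul_smul_comm, map_smul, smul_eq_mul,
        ← mul_assoc η a (τ η), ← hc₁, ← hl]
      simp only [Algebra.smul_def, map_add, map_neg, map_sub, map_mul]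
      ring
    rw [hval, add_smul]
    abel
  let S : AddSubgroup (J F L → L) :=
    { carrier := {c | InQ β G v (Ac F τ c)}
      zero_mem' := ⟨1, one_mem G, fun y => by simp [Ac]⟩
      add_mem' := fun {c c'} hc hc' => by
        have h := inQ_add O hv hc hc'
        simp only [← Ac_add] at h
        exact h
      neg_mem' := fun {c} hc => by
        have h := inQ_neg O hv hc
        show InQ β G v (Ac F τ (-c))
        convert h using 1
        funext x
        simp [Ac, ← Finset.sum_neg_distrib, sub_eq_add_neg, add_comm] }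
  have hS : ∀ {c}, c ∈ S ↔ InQ β G v (Ac F τ c) := Iff.rfl
  have hAc : ∀ u w : L, InQ β G v (Pf F τ u w) ↔ InQ β G v (Ac F τ (coef F τ u w)) := fun u w => by
    have hs := scalar_skew O.fd u w
    constructor <;> intro hq
    · have h1 := inQ_add O hv (inQ_neg O hv (inQ_skew O hv hs)) hq
      convert h1 using 1
      funext x
      rw [Pf_expand O.fd]; ring
    · have h1 := inQ_add O hv (inQ_skew O hv hs) hq
      convert h1 using 1
      funext x
      rw [Pf_expand O.fd]
  let R : Subring (J F L → L) :=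
    { carrier := {w | ∀ c ∈ S, w * c ∈ S}
      mul_mem' := fun {a b} ha hb c hc => by rw [mul_assoc]; exact ha _ (hb c hc)
      one_mem' := fun c hc => by rwa [one_mul]
      add_mem' := fun {a b} ha hb c hc => by rw [add_mul]; exact S.add_mem (ha c hc) (hb c hc)
      zero_mem' := fun c _ => by rw [zero_mul]; exact S.zero_mem
      neg_mem' := fun {a} ha c hc => by rw [neg_mul]; exact S.neg_mem (ha c hc) }
  have hscale : ∀ lam : L, (∃ g ∈ G, ∀ k : L, g (k • v) = (lam * k) • v) →
      (fun i : J F L => lam * phi F L (i + 1) (τ lam)) ∈ R := by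
    rintro lam ⟨g, hg, hgv⟩ c hc
    have h1 := inQ_conj O (hS.1 hc) hg hgv
    refine hS.2 ?_
    convert h1 using 1
    funext x
    rw [← Ac_scale O.fd]
    rfl
  have hD : ∀ x : L, τ x = x → (fun i : J F L => x * phi F L (i + 1) x) ∈ R := by
    intro x hx
    rcases eq_or_ne x 0 with rfl | hx0
    · convert R.zero_mem using 1
      funext i; simp
    · have h1 := hscale x (torus O hv0 hv hx hx0)
      simpa only [hx] using h1
  have hR : ∀ w, w ∈ R := fun w =>
    weights_full O.fd O.μ_norm O.μ_gen R hD (hscale μ (O.twist v hv0 hv)) w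
  have hbase' : coef F τ u₁ ε ∈ S := (hAc _ _).1 hbase
  have hne : ∀ i : J F L, coef F τ u₁ ε i ≠ 0 := by
    intro i hi
    have hz : u₁ * phi F L (i + 1) (τ ε) = ε * phi F L (i + 1) (τ u₁) := sub_eq_zero.1 hi
    set w := u₁ / ε with hw
    have hpe : phi F L (i + 1) (τ ε) ≠ 0 :=
      (map_ne_zero_iff _ (phi_inj _)).2 ((map_ne_zero τ).2 hε)
    have hfix : phi F L (i + 1) (τ w) = w := by
      rw [hw, map_div₀, map_div₀, div_eq_div_iff hpe hε]
      linear_combination -hz
    have hfix2 : phi F L (2 * (i + 1)) w = w := by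
      conv_rhs => rw [← hfix, ← hfix, τ_phi O.fd, ττ O.fd, phi_phi, ← two_mul]
    have hbot := bot_of_fixed O.fd.prime (fun hd => ?_) hfix2
    · obtain ⟨c, hc⟩ := Algebra.mem_bot.1 hbot
      exact hu₁ε c (by rw [Algebra.smul_def, hc, hw, div_mul_cancel₀ _ hε])
    · have := i.2
      rcases (Nat.Prime.dvd_mul O.fd.prime).1 hd with h4 | h4
      · have := Nat.le_of_dvd (by omega) h4
        omega
      · have := Nat.le_of_dvd (by omega) h4
        omega
  intro u w
  refine (hAc u w).2 (hS.1 ?_)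
  have h1 := hR (fun i => coef F τ u w i / coef F τ u₁ ε i) _ hbase'
  convert h1 using 1
  funext i
  rw [Pi.mul_apply, div_mul_cancel₀ _ (hne i)]

/-- The transvection of a vector and a scalar is in the group. -/
def TvIn (β : V →ₗ[L] V →ₛₗ[τ] L) (G : Subgroup (V ≃ₗ[F] V)) (w : V) (κ : F) : Prop :=
  ∃ g ∈ G, ∀ y, g y = y + (κ * Algebra.trace F L (β y w)) • w

theorem tv_iso {w : V} (hw : β w w = 0) {κ : F} (hκ : κ + σ κ = 0) : TvIn β G w κ := by
  rcases eq_or_ne w 0 with rfl | hw0
  · exact ⟨1, one_mem G, fun y => by rw [smul_zero, add_zero]; rfl⟩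
  obtain ⟨v, hv0, hv, hall⟩ := exists_full O
  obtain ⟨g, hg, c, hc0, hgk⟩ := line_move O hv0 hv hw0 hw
  obtain ⟨l, hl⟩ := exists_diff O.fd hκ
  obtain ⟨t, ht, hty⟩ := hall (l • c⁻¹) c⁻¹
  refine ⟨g * t * g⁻¹, mul_mem (mul_mem hg ht) (inv_mem hg), fun y => ?_⟩
  show g (t (g.symm y)) = _
  rw [hty, map_add, g.apply_symm_apply, beta_inv O hg hgk, hgk]
  have hT : Algebra.trace F L (τ c * β y w * τ c⁻¹) = Algebra.trace F L (β y w) := by
    congr 1
    rw [mul_comm (τ c), mul_assoc, ← map_mul, mul_inv_cancel₀ hc0, map_one, mul_one]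
  have hP : Pf F τ (l • c⁻¹) c⁻¹ (τ c * β y w) * c =
      algebraMap F L (κ * Algebra.trace F L (β y w)) := by
    rw [Pf, τ_smul O.fd, mul_smul_comm, map_smul, hT, ← hl]
    simp only [Algebra.smul_def, map_mul, map_sub, Algebra.algebraMap_self, RingHom.id_apply]
    field_simp
  rw [hP, algebraMap_smul]

/-- All transvections at isotropic vectors of the trace form. -/
theorem tv_all {w : V} (hw : Algebra.trace F L (β w w) = 0) {κ : F} (hκ : κ + σ κ = 0) :
    TvIn β G w κ := by
  by_cases hww : β w w = 0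
  · exact tv_iso O hww hκ
  set c := β w w with hc
  obtain ⟨z, hz, hTz⟩ : ∃ z : L, z + τ z = c ∧ Algebra.trace F L z ≠ 0 := by
    obtain ⟨z₀, hz₀⟩ := exists_real_half O (x := -c) (by rw [map_neg, self_fixed O])
    by_cases h0 : Algebra.trace F L z₀ = 0
    · obtain ⟨a₀, ha₀0, ha₀⟩ := exists_skew_unit O.fd
      obtain ⟨k, hk⟩ := CfsgLib.MaxSub.ExtSymp.exists_trace_ne (F := F) ha₀0
      obtain ⟨p₁, p₂, s, t, hs, ht, rfl⟩ := exists_real_split O.fd k
      have : Algebra.trace F L (s * a₀) ≠ 0 ∨ Algebra.trace F L (t * a₀) ≠ 0 := by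
        by_contra hn
        push Not at hn
        apply hk
        rw [add_mul, smul_mul_assoc, smul_mul_assoc, map_add, map_smul, map_smul, hn.1, hn.2, smul_zero,
          smul_zero, add_zero]
      rcases this with h1 | h1
      · exact ⟨z₀ + s * a₀, by rw [map_add, map_mul, hs]; linear_combination hz₀ + s * ha₀,
          by rwa [map_add, h0, zero_add]⟩
      · exact ⟨z₀ + t * a₀, by rw [map_add, map_mul, ht]; linear_combination hz₀ + t * ha₀,
          by rwa [map_add, h0, zero_add]⟩
    · exact ⟨z₀, by linear_combination hz₀, h0⟩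
  obtain ⟨e, he, hwe⟩ : ∃ e, β e e = 0 ∧ β w e ≠ 0 := by
    obtain ⟨e₀, he₀0, he₀⟩ := exists_iso O
    by_cases h1 : β w e₀ = 0
    · obtain ⟨f, hf, hef⟩ := exists_opp O he₀0 he₀
      by_cases h2 : β w f = 0
      · obtain ⟨l, hl⟩ := exists_real_half O (self_fixed O w)
        have hfe : β f e₀ = 1 := by rw [← O.herm, hef, map_one]
        refine ⟨w + e₀ + l • f, ?_, ?_⟩
        · simp only [map_add, LinearMap.add_apply, β_smul_left O, β_smul_right O, he₀, hf, hef, hfe, h1,
            h2, β_zero O h1, β_zero O h2, mul_zero, mul_one, add_zero, zero_add]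
          linear_combination hl
        · simpa [map_add, h1, h2, β_smul_right O, hc] using hww
      · exact ⟨f, hf, h2⟩
    · exact ⟨e₀, he₀, h1⟩
  have hz0 : z ≠ 0 := fun h => hTz (by rw [h, map_zero])
  set k := τ (z / β w e) with hk
  set e' := k • e with he'
  have he'e' : β e' e' = 0 := by rw [he', β_smul_left O, β_smul_right O, he, mul_zero, mul_zero]
  have hwe' : β w e' = z := by rw [he', β_smul_right O, hk, ττ O.fd, div_mul_cancel₀ _ hwe]
  set x := w - e' with hx
  have hxx : β x x = 0 := by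
    rw [hx]
    simp only [map_sub, LinearMap.sub_apply, he'e', hwe', ← hc]
    rw [show β e' w = τ z by rw [← O.herm, hwe']]
    linear_combination -hz
  have hex : Algebra.trace F L (β e' x) = σ (Algebra.trace F L z) := by
    rw [hx, map_sub (β e'), he'e', sub_zero, ← O.herm, hwe', trace_τ O.fd]
  set t := σ (Algebra.trace F L z) with ht
  have ht0 : t ≠ 0 := (map_ne_zero σ).2 hTz
  have hts : t⁻¹ + σ t⁻¹ = 0 := by
    have h1 : Algebra.trace F L z + t = 0 := by
      rw [ht, ← trace_τ O.fd, ← map_add, hz]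
      exact hw
    have h2 : σ t = -t := by rw [ht, σσ O.fd]; linear_combination h1
    rw [map_inv₀, h2, inv_neg, add_neg_cancel]
  obtain ⟨g, hg, hgy⟩ := tv_iso O hxx hts
  have hge : g e' = w := by
    rw [hgy, hex, inv_mul_cancel₀ ht0, one_smul, hx, add_sub_cancel]
  obtain ⟨g₁, hg₁, hg₁y⟩ := tv_iso O he'e' hκ
  refine ⟨g * g₁ * g⁻¹, mul_mem (mul_mem hg hg₁) (inv_mem hg), fun y => ?_⟩
  show g (g₁ (g.symm y)) = _
  rw [hg₁y, map_add, map_smul, g.apply_symm_apply, hge]
  congr 3
  rw [← O.iso g hg, g.apply_symm_apply, hge]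

end

end CfsgLib.MaxSub.ExtUnitary
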