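/-
Normalisers of extension fields of unitary type are maximal.
-/
import Cfsg.Agent.Lib.MaxSub.ExtUnitary.Root
import Cfsg.Agent.Lib.MaxSub.ExtLin.Main
import Cfsg.Agent.Lib.MaxSub.SubspaceMaximalUnitary
import Cfsg.Agent.Lib.Aschbacher.UnitaryProper
import Mathlib.RingTheory.Norm.Transitivity

set_option autoImplicit false
set_option maxHeartbeats 800000
set_option linter.unusedSectionVars false
set_option linter.style.haveILetI false

namespace CfsgLib.MaxSub.ExtUnitary

open Matrix Module Cfsg Cfsg.Geo CfsgLib.UnitaryTransvection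
open CfsgLib.MaxSub.ExtSymp (eq_zero_of_trace)

variable {F : Type*} [Field F] [Fintype F] {n q : ℕ}

local notation "VV" => (Fin n → F)
local notation "MM" => Matrix (Fin n) (Fin n) F

/-- The matrix group as a group of linear maps. -/
noncomputable def gmap : GL (Fin n) F ≃* ((Fin n → F) ≃ₗ[F] (Fin n → F)) :=
  (Matrix.GeneralLinearGroup.toLin).trans
    (LinearMap.GeneralLinearGroup.generalLinearEquiv F (Fin n → F))

omit [Fintype F] in
theorem gmap_apply (g : GL (Fin n) F) (x : VV) : gmap g x = (g : MM) *ᵥ x := rfl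

omit [Fintype F] in
/-- The determinant of a rank one perturbation of the identity. -/
theorem det_rank_one {L W : Type*} [Field L] [AddCommGroup W] [Module L W] [FiniteDimensional L W]
    (φ : W →ₗ[L] L) (x : W) : LinearMap.det (LinearMap.id + φ.smulRight x) = 1 + φ x := by
  classical
  let b := Module.finBasis L W
  rw [← LinearMap.det_toMatrix b]
  have hM : LinearMap.toMatrix b b (LinearMap.id + φ.smulRight x) =
      1 + Matrix.replicateCol Unit (fun i => b.repr x i) * Matrix.replicateRow Unit (fun j => φ (b j)) := by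
    ext i j
    rw [LinearMap.toMatrix_apply]
    simp [Matrix.one_apply, Finsupp.single_apply, Matrix.mul_apply, eq_comm, mul_comm]
  rw [hM, Matrix.det_one_add_replicateCol_mul_replicateRow]
  congr 1
  rw [dotProduct]
  conv_rhs => rw [← b.sum_repr x, map_sum]
  exact Finset.sum_congr rfl fun j _ => by rw [map_smul, smul_eq_mul, mul_comm]

/-- Unipotent maps have determinant one. -/
theorem det_unipotent (T : VV →ₗ[F] VV) (h : (T - LinearMap.id) ∘ₗ (T - LinearMap.id) ∘ₗ (T - LinearMap.id) = 0) :
    LinearMap.det T = 1 := by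
  rcases Nat.eq_zero_or_pos n with rfl | hn
  · exact LinearMap.det_eq_one_of_subsingleton _
  haveI : Nonempty (Fin n) := ⟨⟨0, hn⟩⟩
  haveI hp : Fact (ringChar F).Prime := ⟨CharP.char_is_prime F _⟩
  haveI : ExpChar F (ringChar F) := ExpChar.prime hp.out
  set N := LinearMap.toMatrix' (T - LinearMap.id) with hN
  have hN3 : N * (N * N) = 0 := by
    rw [hN, ← LinearMap.toMatrix'_comp, ← LinearMap.toMatrix'_comp, h, map_zero]
  have hT : LinearMap.toMatrix' T = 1 + N := by
    rw [hN, map_sub, LinearMap.toMatrix'_id, add_sub_cancel]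
  set p := ringChar F with hpdef
  have h3 : 3 ≤ p ^ 2 := by
    have := hp.out.two_le
    nlinarith
  have hpow : (1 + N) ^ p ^ 2 = 1 := by
    rw [add_pow_char_pow_of_commute p 2 (show Commute (1 : MM) N from Commute.one_left N), one_pow,
      show N ^ p ^ 2 = N * (N * N) * N ^ (p ^ 2 - 3) from ?_, hN3, zero_mul, add_zero]
    rw [show N * (N * N) = N ^ 3 by rw [pow_succ', sq], ← pow_add, Nat.add_sub_cancel' h3]
  rw [← LinearMap.det_toMatrix', hT]
  refine iterateFrobenius_inj F p 2 ?_
  rw [iterateFrobenius_def, iterateFrobenius_def, ← Matrix.det_pow, hpow, Matrix.det_one, one_pow]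

variable (hF : Fintype.card F = q ^ 2)

local notation "h" => Cfsg.hermForm n F q
local notation "σ" => frob hF
local notation "G" => Cfsg.GU n F q ⊓ specialLinear (Fin n) F

include hF in
/-- An overgroup of the normaliser outside it contains `SU`. -/
theorem over_of {L : Type*} [Field L] [Algebra F L] {r : ℕ} (hr : r.Prime) (hodd : Odd r) (hr5 : r ≤ 5)
    (hrank : finrank F L = r) (hn2 : 2 * r ≤ n) (hk : 3 * r ≤ n ∨ 5 ≤ r ∨ 3 ≤ q)
    {A : Subalgebra F MM} (ρ : L →ₐ[F] MM) (hρ : ∀ M, M ∈ A ↔ ∃ l, ρ l = M)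
    (hinj : Function.Injective ρ) (hAa : IsAdjointClosedFor h A)
    {M : Subgroup (GL (Fin n) F)} (hle : subalgebraNormalizer A ⊓ G ≤ M) (hMG : M ≤ G)
    {g₀ : GL (Fin n) F} (hg₀ : g₀ ∈ M) (hg₀N : g₀ ∉ subalgebraNormalizer A) : G ≤ M := by
  classical
  haveI : FiniteDimensional F L := FiniteDimensional.of_finrank_pos (by rw [hrank]; exact hr.pos)
  haveI : Finite L := Module.finite_of_finite F
  letI : Module L VV := Module.compHom _
    ((Matrix.toLinAlgEquiv' : MM ≃ₐ[F] _).toAlgHom.toRingHom.comp ρ.toRingHom)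
  have hsmul : ∀ (k : L) (x : VV), k • x = ρ k *ᵥ x := fun k x => Matrix.toLinAlgEquiv'_apply _ _
  haveI : IsScalarTower F L VV := ⟨fun a k x => by
    rw [hsmul, hsmul, map_smul, Matrix.smul_mulVec]⟩
  haveI : Module.Finite L VV := Module.Finite.right F L VV
  -- the adjoint
  have hex : ∀ k : L, ∃ l : L, ∀ x y : VV, h (k • x) y = h x (l • y) := fun k => by
    obtain ⟨k', hk', hkk⟩ := hAa (ρ k) ((hρ _).2 ⟨k, rfl⟩)
    obtain ⟨l, rfl⟩ := (hρ _).1 hk'
    exact ⟨l, fun x y => by rw [hsmul, hsmul]; exact hkk x y⟩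
  choose st hst using hex
  have huniq : ∀ a b : L, (∀ x y : VV, h x (a • y) = h x (b • y)) → a = b := fun a b hab => hinj (by
    refine Matrix.ext_of_mulVec_single fun i => ?_
    rw [← hsmul, ← hsmul]
    refine sub_eq_zero.1 (h_nondeg (hF := hF) fun y => ?_)
    rw [← h_swap hF, h_sub_right hF, hab, sub_self, map_zero])
  have hswap : ∀ (k : L) (x y : VV), h x (k • y) = h (st k • x) y := fun k x y => by
    rw [← h_swap hF, hst, h_swap hF]
  let s : L →+* L :=
    { toFun := st
      map_one' := huniq _ _ fun x y => by rw [← hst, one_smul, one_smul]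
      map_mul' := fun a b => huniq _ _ fun x y => by
        rw [← hst, mul_comm (st a), mul_smul, mul_smul, hst, hst]
      map_zero' := huniq _ _ fun x y => by
        rw [← hst, zero_smul, zero_smul]
        have e1 := h_smul_left (n := n) (q := q) (0 : F) (0 : VV) y
        have e2 := h_smul_right hF (0 : F) x (0 : VV)
        simp only [zero_smul, zero_mul, map_zero] at e1 e2
        rw [e1, e2]
      map_add' := fun a b => huniq _ _ fun x y => by
        rw [← hst, add_smul, add_smul, h_add_left, h_add_right hF, hst, hst] }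
  have hs : ∀ k, s k = st k := fun k => rfl
  have hss : ∀ k, st (st k) = k := fun k => huniq _ _ fun x y => by rw [← hst, ← hswap]
  have hbase : ∀ a : F, st (algebraMap F L a) = algebraMap F L (σ a) := fun a => huniq _ _ fun x y => by
    rw [← hst, algebraMap_smul, algebraMap_smul, h_smul_left, h_smul_right hF, frob_frob hF]
  -- the involution is the power map
  obtain ⟨p, hp⟩ := CharP.exists F
  obtain ⟨d, hpp, hcard⟩ := FiniteField.card F p
  obtain ⟨τ₀, hτ₀⟩ : ∃ t : L →+* L, ∀ x, t x = x ^ q ^ r := by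
    obtain ⟨f, -, hf⟩ := (Nat.dvd_prime_pow hpp).1 (hcard ▸ hF ▸ dvd_pow_self q two_ne_zero)
    haveI : Fact p.Prime := ⟨hpp⟩
    haveI : CharP L p := charP_of_injective_algebraMap (algebraMap F L).injective _
    haveI : ExpChar L p := ExpChar.prime hpp
    exact ⟨iterateFrobenius L p (f * r), fun x => by rw [iterateFrobenius_def, hf, ← pow_mul]⟩
  have E₀ : FD q (frob hF) τ₀ :=
    ⟨hF, frob_apply hF, fun x => by rw [hrank]; exact hτ₀ x, by rw [hrank]; exact hr, by rw [hrank]; exact hodd⟩
  let c : L →ₐ[F] L :=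
    { s.comp τ₀ with
      commutes' := fun a => by
        show st (τ₀ (algebraMap F L a)) = _
        rw [τ_base E₀, hbase, σσ E₀] }
  obtain ⟨j, hj⟩ := (FiniteField.bijective_frobeniusAlgHom_pow F L).2 c
  have hj0 : (j : ℕ) = 0 := by
    have hc2 : ∀ x, c (c x) = x := fun x => by
      show st (τ₀ (st (τ₀ x))) = x
      rw [hτ₀ (st _), ← hs, ← hs, ← map_pow, ← hτ₀, ττ E₀, hs, hs, hss]
    have hdvd : r ∣ (j : ℕ) + j := by
      refine (dvd_of_eq (hrank.symm.trans (FiniteField.orderOf_frobeniusAlgHom F L).symm)).trans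
        (orderOf_dvd_of_pow_eq_one (AlgHom.ext fun x => ?_))
      rw [pow_add]
      show (FiniteField.frobeniusAlgHom F L ^ (j : ℕ)) ((FiniteField.frobeniusAlgHom F L ^ (j : ℕ)) x) = x
      rw [show FiniteField.frobeniusAlgHom F L ^ (j : ℕ) = c from hj]
      exact hc2 x
    rcases Nat.eq_zero_or_pos (j : ℕ) with h0 | h0
    · exact h0
    · rw [← two_mul] at hdvd
      have hj2 : (j : ℕ) < r := j.2.trans_le hrank.le
      rcases (Nat.Prime.dvd_mul hr).1 hdvd with h1 | h1
      · have h2 := (Nat.prime_dvd_prime_iff_eq hr Nat.prime_two).1 h1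
        subst h2
        exact absurd hodd (by decide)
      · exact Nat.eq_zero_of_dvd_of_lt h1 hj2
  have hsτ : ∀ k, st k = τ₀ k := fun k => by
    have hc1 : ∀ x, c x = x := fun x => by rw [← hj]; simp only [hj0, pow_zero, AlgHom.one_apply]
    have := hc1 (τ₀ k)
    rw [show c (τ₀ k) = st (τ₀ (τ₀ k)) from rfl, ττ E₀] at this
    exact this
  -- the form over the extension field
  let φ : VV → VV → Dual F L := fun x y =>
    { toFun := fun k => h (k • x) y
      map_add' := fun a b => by rw [add_smul, h_add_left]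
      map_smul' := fun a k => by rw [smul_assoc, h_smul_left, RingHom.id_apply, smul_eq_mul] }
  let b : VV → VV → L := fun x y =>
    ((Algebra.traceForm F L).toDual (traceForm_nondegenerate F L)).symm (φ x y)
  have hb : ∀ x y k, Algebra.trace F L (b x y * k) = h (k • x) y := fun x y k => by
    rw [← Algebra.traceForm_apply]
    exact LinearMap.BilinForm.apply_toDual_symm_apply (hB := traceForm_nondegenerate F L) (φ x y) k
  have hext : ∀ {a a' : L}, (∀ k, Algebra.trace F L (a * k) = Algebra.trace F L (a' * k)) → a = a' :=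
    fun {a a'} e => sub_eq_zero.1 (eq_zero_of_trace (F := F) fun k => by
      rw [mul_comm, sub_mul, map_sub, e, sub_self])
  let β : VV →ₗ[L] VV →ₛₗ[τ₀] L := LinearMap.mk₂'ₛₗ (RingHom.id L) τ₀ b
    (fun x x' y => hext fun k => by rw [add_mul, map_add, hb, hb, hb, smul_add, h_add_left])
    (fun a x y => hext fun k => by
      rw [RingHom.id_apply, smul_eq_mul, hb, smul_smul, ← hb]
      congr 1; ring)
    (fun x y y' => hext fun k => by rw [add_mul, map_add, hb, hb, hb, h_add_right hF])
    (fun a x y => hext fun k => by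
      rw [smul_eq_mul, hb, hswap, hsτ, smul_smul, ← hb]
      congr 1; ring)
  have hβb : ∀ x y, β x y = b x y := fun x y => rfl
  have htr : ∀ x y, Algebra.trace F L (β x y) = h x y := fun x y => by
    have h1 := hb x y 1
    rw [mul_one, one_smul] at h1
    exact h1
  have herm : ∀ x y, τ₀ (β x y) = β y x := fun x y => hext fun k => by
    rw [hβb, hβb, hb, ← ττ E₀ k, ← map_mul, trace_τ E₀, hb, h_swap hF, hswap, hsτ]
  have hnd : ∀ x, (∀ y, β x y = 0) → x = 0 := fun x hx =>
    h_nondeg (hF := hF) fun y => by rw [← htr, hx, map_zero]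
  have hnL : n = r * finrank L VV := by
    rw [← hrank, Module.finrank_mul_finrank, Module.finrank_fin_fun]
  have two : 2 ≤ finrank L VV := by
    by_contra hc
    have : r * finrank L VV ≤ r * 1 := Nat.mul_le_mul_left _ (by omega)
    have := hr.two_le
    omega
  -- elements of the overgroup
  let K := M.map gmap.toMonoidHom
  have hmem : ∀ g', g' ∈ K ↔ gmap.symm g' ∈ M := fun g' => by
    refine ⟨?_, fun e => ⟨_, e, gmap.apply_symm_apply g'⟩⟩
    rintro ⟨g, hg, rfl⟩
    simpa using hg
  have hbuild : ∀ T : VV →ₗ[L] VV, (∀ x y, β (T x) (T y) = β x y) →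
      LinearMap.det (T.restrictScalars F) = 1 → ∃ g ∈ K, ∀ y, g y = T y := by
    intro T hT hd
    let N : MM := LinearMap.toMatrix' (T.restrictScalars F)
    have hNv : ∀ y, N *ᵥ y = T y := fun y => by
      show LinearMap.toMatrix' (T.restrictScalars F) *ᵥ y = _
      rw [← Matrix.toLin'_apply, Matrix.toLin'_toMatrix']; rfl
    have hdN : N.det = 1 := by rw [← hd]; exact LinearMap.det_toMatrix' _
    have hisoN : ∀ u v, h (N *ᵥ u) (N *ᵥ v) = h u v := fun u v => by
      rw [hNv, hNv, ← htr, hT, htr]
    have hcomm : ∀ l, N * ρ l = ρ l * N := fun l => Matrix.ext_of_mulVec_single fun i => by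
      rw [← Matrix.mulVec_mulVec, ← Matrix.mulVec_mulVec, hNv, hNv, ← hsmul, ← hsmul, map_smul]
    set g : GL (Fin n) F := sg N hdN with hgdef
    have hgN : (g : MM) = N := rfl
    have hgA : g ∈ subalgebraNormalizer A := fun k => by
      constructor
      · intro hk
        obtain ⟨l, rfl⟩ := (hρ _).1 hk
        rw [hgN, hcomm, mul_assoc, ← hgN, Units.mul_inv, mul_one]
        exact hk
      · intro hk
        obtain ⟨l, hl⟩ := (hρ _).1 hk
        have h2 : (g : MM) * k = (g : MM) * ρ l := by
          have h3 := congrArg (· * (g : MM)) hl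
          simp only [Units.inv_mul_cancel_right] at h3
          rw [← h3, hgN, hcomm]
        rw [g.isUnit.mul_left_cancel h2]
        exact (hρ _).2 ⟨_, rfl⟩
    exact ⟨gmap g, ⟨g, hle ⟨hgA, sg_mem hisoN hdN⟩, rfl⟩, fun y => by rw [gmap_apply, hgN, hNv]⟩
  have hβl : ∀ (a : L) x y, β (a • x) y = a * β x y := fun a x y => by
    rw [map_smul, LinearMap.smul_apply, smul_eq_mul]
  have hβr : ∀ x (a : L) y, β x (a • y) = τ₀ a * β x y := fun x a y => by rw [map_smulₛₗ, smul_eq_mul]
  have htv : ∀ (a : L) (d : VV), β d d = 0 → a + τ₀ a = 0 →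
      ∃ g ∈ K, ∀ y, g y = y + (a * β y d) • d := by
    intro a d hd ha
    let T : VV →ₗ[L] VV := LinearMap.id + (a • β.flip d).smulRight d
    have hT : ∀ y, T y = y + (a * β y d) • d := fun y => rfl
    obtain ⟨g, hg, hgy⟩ := hbuild T (fun x y => by
      simp only [hT, map_add, LinearMap.add_apply, hβl, hβr, map_mul, herm, hd, mul_zero, add_zero]
      linear_combination (β x d * β d y) * ha) (det_unipotent _ (LinearMap.ext fun y => by
      have hN : ∀ z, (T.restrictScalars F - (LinearMap.id : VV →ₗ[F] VV)) z = (a * β z d) • d := fun z => by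
        show T z - z = _
        rw [hT, add_sub_cancel_left]
      rw [LinearMap.comp_apply, LinearMap.comp_apply, hN, hN, hN]
      simp only [hβl, hd, mul_zero, zero_smul, map_zero, LinearMap.zero_apply]))
    exact ⟨g, hg, fun y => (hgy y).trans (hT y)⟩
  have hsieg : ∀ (e w : VV) (c : L), β e e = 0 → β w e = 0 → c + τ₀ c + β w w = 0 →
      ∃ g ∈ K, ∀ y, g y = y + β y e • w - β y w • e + (c * β y e) • e := by
    intro e w c he hwe hc
    let T : VV →ₗ[L] VV := LinearMap.id + (β.flip e).smulRight w - (β.flip w).smulRight e +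
      (c • β.flip e).smulRight e
    have hT : ∀ y, T y = y + β y e • w - β y w • e + (c * β y e) • e := fun y => rfl
    have hew : β e w = 0 := by rw [← herm, hwe, map_zero]
    obtain ⟨g, hg, hgy⟩ := hbuild T (fun x y => by
      simp only [hT, map_add, map_sub, LinearMap.add_apply, LinearMap.sub_apply, hβl, hβr, map_mul, herm,
        he, hwe, hew, mul_zero, add_zero, sub_zero, zero_sub]
      linear_combination (β x e * β e y) * hc) (det_unipotent _ (LinearMap.ext fun y => by
      have hN : ∀ z, (T.restrictScalars F - (LinearMap.id : VV →ₗ[F] VV)) z =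
          β z e • w - β z w • e + (c * β z e) • e := fun z => by
        show T z - z = _
        rw [hT]; abel
      rw [LinearMap.comp_apply, LinearMap.comp_apply, hN, hN, hN]
      simp only [map_add, map_sub, LinearMap.add_apply, LinearMap.sub_apply, hβl, he, hwe, hew, mul_zero,
        add_zero, sub_zero, zero_sub, zero_smul, neg_smul, LinearMap.zero_apply, map_zero, map_neg,
        LinearMap.neg_apply, neg_zero]))
    exact ⟨g, hg, fun y => (hgy y).trans (hT y)⟩
  -- the multiplier
  haveI : Fintype L := Fintype.ofFinite L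
  have hcL : Fintype.card L = q ^ r * q ^ r := by
    rw [Module.card_eq_pow_finrank (K := F) (V := L), hF, hrank, ← pow_mul, ← pow_add, two_mul]
  obtain ⟨z, hz⟩ := IsCyclic.exists_generator (α := Lˣ)
  have hoz : orderOf z = q ^ r * q ^ r - 1 := by
    rw [orderOf_eq_card_of_forall_mem_zpowers hz, Nat.card_eq_fintype_card, Fintype.card_units, hcL]
  have hq := two_le_q E₀
  have hQ : 2 ≤ q ^ r := hq.trans (Nat.le_self_pow hr.pos.ne' q)
  have hfac : q ^ r * q ^ r - 1 = (q ^ r + 1) * (q ^ r - 1) := by rw [← Nat.sq_sub_sq, one_pow, sq]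
  have hμgen : ∀ e : ℕ, 0 < e → (q ^ r - 1) ∣ e →
      ¬ q ^ r + 1 ∣ e / (q ^ r - 1) * 2 * (q ^ 2 - 1) →
      (((z ^ e : Lˣ) : L) * τ₀ ((z ^ e : Lˣ) : L) = 1) ∧
        ((z ^ e : Lˣ) : L) * ((z ^ e : Lˣ) : L) ∉ (⊥ : Subalgebra F L) := by
    intro e he hde hlt
    obtain ⟨u, rfl⟩ := hde
    rw [Nat.mul_div_cancel_left _ (by omega)] at hlt
    refine ⟨?_, fun hbot => ?_⟩
    · rw [hτ₀, ← Units.val_pow_eq_pow_val, ← Units.val_mul, ← pow_mul, ← pow_add]
      have : z ^ ((q ^ r - 1) * u + (q ^ r - 1) * u * q ^ r) = 1 := by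
        rw [← orderOf_dvd_iff_pow_eq_one, hoz, hfac]
        exact ⟨u, by ring⟩
      rw [this, Units.val_one]
    · obtain ⟨a, ha⟩ := Algebra.mem_bot.1 hbot
      have ha0 : a ≠ 0 := fun h0 => by
        rw [h0, map_zero] at ha
        exact mul_ne_zero (Units.ne_zero _) (Units.ne_zero _) ha.symm
      have h1 : (((z ^ ((q ^ r - 1) * u)) * (z ^ ((q ^ r - 1) * u))) ^ (q ^ 2 - 1) : Lˣ) = 1 := by
        ext
        rw [Units.val_pow_eq_pow_val, Units.val_mul, ← ha, ← map_pow, ← hF,
          FiniteField.pow_card_sub_one_eq_one a ha0, map_one, Units.val_one]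
      rw [← pow_add, ← pow_mul, ← orderOf_dvd_iff_pow_eq_one, hoz, hfac] at h1
      have h2 : (q ^ r - 1) * (q ^ r + 1) ∣ (q ^ r - 1) * (u * 2 * (q ^ 2 - 1)) := by
        convert h1 using 1 <;> ring
      have h3 := Nat.dvd_of_mul_dvd_mul_left (by omega) h2
      exact hlt h3
  have hnd_lt : ∀ {u : ℕ}, 0 < u → u * 2 * (q ^ 2 - 1) < q ^ r + 1 →
      ¬ q ^ r + 1 ∣ u * 2 * (q ^ 2 - 1) := fun {u} hu hlt hdvd => by
    have hq2 : 0 < q ^ 2 - 1 := by
      have : 2 ^ 2 ≤ q ^ 2 := Nat.pow_le_pow_left hq 2
      omega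
    have := Nat.le_of_dvd (by positivity) hdvd
    omega
  obtain ⟨μ, hμ, hμ2, twist⟩ : ∃ μ : L, μ * τ₀ μ = 1 ∧ μ * μ ∉ (⊥ : Subalgebra F L) ∧
      ∀ e : VV, e ≠ 0 → β e e = 0 → ∃ g ∈ K, ∀ k : L, g (k • e) = (μ * k) • e := by
    by_cases hk2 : finrank L VV = 2
    · rw [hk2] at hnL
      have hr2 := hr.two_le
      obtain ⟨hm1, hm2⟩ := hμgen ((q ^ r - 1) * (q + 1)) (Nat.mul_pos (by omega) (by omega))
        (dvd_mul_right _ _) (by
        rw [Nat.mul_div_cancel_left _ (by omega)]
        by_cases hr5' : 5 ≤ r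
        · refine hnd_lt (Nat.succ_pos q) ?_
          have h5 : q ^ 5 ≤ q ^ r := Nat.pow_le_pow_right (by omega) hr5'
          have h4 : q ^ 2 - 1 ≤ q ^ 2 := Nat.sub_le _ _
          have : (q + 1) * 2 * (q ^ 2 - 1) ≤ q ^ 5 := by
            calc (q + 1) * 2 * (q ^ 2 - 1) ≤ (q + 1) * 2 * q ^ 2 := Nat.mul_le_mul_left _ h4
              _ ≤ q ^ 3 * q ^ 2 := Nat.mul_le_mul_right _ (by nlinarith)
              _ = q ^ 5 := by ring
          omega
        · have hq3 : 3 ≤ q := by omega
          obtain rfl : r = 3 := by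
            obtain ⟨m, rfl⟩ := hodd
            omega
          intro hdvd
          obtain ⟨m, hm⟩ : ∃ m, q ^ 2 = q + m ∧ 2 * q ≤ m := ⟨q ^ 2 - q, by
            have : 3 * q ≤ q ^ 2 := by nlinarith
            omega⟩
          have hfac3 : q ^ 3 + 1 = (q + 1) * (m + 1) := by
            have e : q ^ 3 = q * q ^ 2 := by ring
            nlinarith
          rw [hfac3, mul_assoc (q + 1)] at hdvd
          obtain ⟨c, hc⟩ := Nat.dvd_of_mul_dvd_mul_left (Nat.succ_pos q) hdvd
          rcases Nat.lt_or_ge c 3 with hc3 | hc3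
          · interval_cases c <;> omega
          · have := Nat.mul_le_mul_left (m + 1) hc3
            omega)
      refine ⟨_, hm1, hm2, fun e _ _ => ?_⟩
      set μ := ((z ^ ((q ^ r - 1) * (q + 1)) : Lˣ) : L) with hμdef
      have hnorm : Algebra.norm F μ = 1 := by
        rw [hμdef, Units.val_pow_eq_pow_val, map_pow]
        have hd : q ^ 2 - 1 ∣ (q ^ r - 1) * (q + 1) := by
          rw [show q ^ 2 - 1 = (q - 1) * (q + 1) by rw [mul_comm, ← Nat.sq_sub_sq, one_pow]]
          have h1 := Nat.sub_dvd_pow_sub_pow q 1 r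
          rw [one_pow] at h1
          exact Nat.mul_dvd_mul_right h1 _
        obtain ⟨w, hw⟩ := hd
        rw [hw, pow_mul, ← hF, FiniteField.pow_card_sub_one_eq_one _
          (Algebra.norm_ne_zero_iff.2 (Units.ne_zero z)), one_pow]
      let T : VV →ₗ[L] VV := μ • LinearMap.id
      have hT : ∀ y, T y = μ • y := fun y => rfl
      obtain ⟨g, hg, hgy⟩ := hbuild T (fun x y => by
        rw [hT, hT, hβl, hβr, ← mul_assoc, hm1, one_mul]) (by
        rw [LinearMap.det_restrictScalars, LinearMap.det_smul, LinearMap.det_id, mul_one, map_pow, hnorm,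
          one_pow])
      exact ⟨g, hg, fun k => by rw [hgy, hT, smul_smul]⟩
    · obtain ⟨hm1, hm2⟩ := hμgen (q ^ r - 1) (by omega) dvd_rfl (by
        rw [Nat.div_self (by omega)]
        refine hnd_lt one_pos ?_
        have h3 : q ^ 3 ≤ q ^ r := Nat.pow_le_pow_right (by omega) (by
          obtain ⟨m, rfl⟩ := hodd
          have := hr.two_le
          omega)
        have h4 : q ^ 2 - 1 ≤ q ^ 2 := Nat.sub_le _ _
        have h5 : 2 * q ^ 2 ≤ q ^ 3 := by rw [pow_succ q 2, mul_comm]; exact Nat.mul_le_mul_left _ hq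
        omega)
      refine ⟨_, hm1, hm2, fun e he0 he => ?_⟩
      set μ := ((z ^ (q ^ r - 1) : Lˣ) : L) with hμdef
      have hμ0 : μ ≠ 0 := Units.ne_zero _
      -- an opposite vector
      obtain ⟨θ, hθ⟩ := exists_theta E₀
      have hhalf : ∀ x : L, τ₀ x = x → ∃ c : L, c + τ₀ c + x = 0 := fun x hx => by
        refine ⟨-(θ • x), ?_⟩
        rw [map_neg, τ_smul E₀, hx]
        calc -(θ • x) + -(frob hF θ • x) + x = (1 - (θ + frob hF θ)) • x := by module
          _ = 0 := by rw [hθ, sub_self, zero_smul]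
      obtain ⟨a, ha⟩ : ∃ a, β e a ≠ 0 := by
        by_contra hc
        push Not at hc
        exact he0 (hnd e hc)
      set a' := (τ₀ (β e a))⁻¹ • a with ha'
      have hea' : β e a' = 1 := by rw [ha', hβr, map_inv₀, ττ E₀, inv_mul_cancel₀ ha]
      obtain ⟨c, hc⟩ := hhalf (β a' a') (herm a' a')
      set f := a' + c • e with hf
      have hef : β e f = 1 := by rw [hf, map_add, hea', hβr, he, mul_zero, add_zero]
      have hfe : β f e = 1 := by rw [← herm, hef, map_one]
      have hff : β f f = 0 := by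
        have ha'e : β a' e = 1 := by rw [← herm, hea', map_one]
        simp only [hf, map_add, LinearMap.add_apply, hβl, hβr, he, hea', ha'e, mul_zero, mul_one, add_zero]
        linear_combination hc
      -- an anisotropic vector perpendicular to both
      obtain ⟨w, hwe, hwf, hww⟩ : ∃ w, β w e = 0 ∧ β w f = 0 ∧ β w w ≠ 0 := by
        by_contra hno
        push Not at hno
        let P : VV → VV := fun x => x - β x f • e - β x e • f
        have hP : ∀ x, β (P x) e = 0 ∧ β (P x) f = 0 := fun x => by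
          constructor <;>
            simp only [P, map_sub, LinearMap.sub_apply, hβl, he, hff, hef, hfe, mul_zero, mul_one,
              sub_zero, sub_self]
        have hzero : ∀ x y, β (P x) (P y) = 0 := fun x y => by
          refine eq_zero_of_trace (F := F) fun k => ?_
          have key : ∀ u, β u u = 0 → ∀ v, β v v = 0 → β (u + v) (u + v) = 0 →
              β u v + τ₀ (β u v) = 0 := fun u hu v hv h2 => by
            simp only [map_add, LinearMap.add_apply, hu, hv, zero_add, add_zero] at h2
            rw [herm]; linear_combination h2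
          have hh : ∀ k : L, k * β (P x) (P y) + τ₀ (k * β (P x) (P y)) = 0 := fun k => by
            rw [← hβl]
            refine key _ ?_ _ (hno _ (hP y).1 (hP y).2) (hno _ ?_ ?_)
            · rw [hβl, hβr, hno _ (hP x).1 (hP x).2, mul_zero, mul_zero]
            · rw [map_add, LinearMap.add_apply, hβl, (hP x).1, (hP y).1, mul_zero, add_zero]
            · rw [map_add β, LinearMap.add_apply, hβl, (hP x).2, (hP y).2, mul_zero, add_zero]
          have h1 : ∀ l : L, Algebra.trace F L (l * β (P x) (P y)) +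
              frob hF (Algebra.trace F L (l * β (P x) (P y))) = 0 := fun l => by
            rw [← trace_τ E₀, ← map_add, hh, map_zero]
          exact eq_zero_of_σ E₀ fun t => by
            have := h1 (t • k)
            rwa [smul_mul_assoc, map_smul, smul_eq_mul] at this
        have hspan : ∀ x, P x = 0 := fun x => hnd _ fun y => by
          have hy : y = P y + β y f • e + β y e • f := by simp only [P]; abel
          rw [hy]
          simp only [map_add, hβr, (hP x).1, (hP x).2, hzero, mul_zero, add_zero]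
        have htop : (⊤ : Submodule L VV) ≤ Submodule.span L (Set.range ![e, f]) := fun x _ => by
          have hx : x = β x f • e + β x e • f := by
            have h1 : x - β x f • e - β x e • f = 0 := hspan x
            rwa [sub_sub, sub_eq_zero] at h1
          rw [hx]
          exact add_mem (Submodule.smul_mem _ _ (Submodule.subset_span ⟨0, rfl⟩))
            (Submodule.smul_mem _ _ (Submodule.subset_span ⟨1, rfl⟩))
        have h1 := (Submodule.finrank_mono htop).trans (finrank_range_le_card ![e, f])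
        rw [finrank_top, Fintype.card_fin] at h1
        omega
      have hew : β e w = 0 := by rw [← herm, hwe, map_zero]
      have hfw : β f w = 0 := by rw [← herm, hwf, map_zero]
      set ν := μ⁻¹ * μ⁻¹ with hν
      let Se : VV →ₗ[L] VV := LinearMap.id + ((μ - 1) • β.flip f).smulRight e
      let Sf : VV →ₗ[L] VV := LinearMap.id + ((μ - 1) • β.flip e).smulRight f
      let Sw : VV →ₗ[L] VV := LinearMap.id + (((ν - 1) / β w w) • β.flip w).smulRight w
      let T := Se ∘ₗ Sf ∘ₗ Sw
      have hT : ∀ y, T y = y + ((μ - 1) * β y f) • e + ((μ - 1) * β y e) • f +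
          ((ν - 1) / β w w * β y w) • w := fun y => by
        show (y + ((ν - 1) / β w w * β y w) • w) + ((μ - 1) * β (y + ((ν - 1) / β w w * β y w) • w) e) • f +
          ((μ - 1) * β ((y + ((ν - 1) / β w w * β y w) • w) +
            ((μ - 1) * β (y + ((ν - 1) / β w w * β y w) • w) e) • f) f) • e = _
        simp only [map_add, LinearMap.add_apply, hβl, hwe, hwf, hff, mul_zero, add_zero]
        abel
      have hτμ : τ₀ μ = μ⁻¹ := eq_inv_of_mul_eq_one_right hm1
      obtain ⟨g, hg, hgy⟩ := hbuild T (fun x y => by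
        have hτν : τ₀ ν = ν⁻¹ := by rw [hν, map_mul, map_inv₀, hτμ, mul_inv]
        have hν0 : ν ≠ 0 := mul_ne_zero (inv_ne_zero hμ0) (inv_ne_zero hμ0)
        simp only [hT, map_add, LinearMap.add_apply, hβl, hβr, map_mul, map_div₀, map_sub, map_one, herm,
          he, hff, hef, hfe, hwe, hwf, hew, hfw, hτμ, hτν, mul_zero, mul_one, add_zero, zero_add]
        field_simp
        ring) (by
        rw [LinearMap.det_restrictScalars, LinearMap.det_comp, LinearMap.det_comp, det_rank_one,
          det_rank_one, det_rank_one]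
        simp only [LinearMap.smul_apply, LinearMap.flip_apply, smul_eq_mul, hef, hfe, mul_one,
          add_sub_cancel, div_mul_cancel₀ _ hww]
        rw [hν, show μ * (μ * (μ⁻¹ * μ⁻¹)) = 1 by field_simp, map_one])
      refine ⟨g, hg, fun k => ?_⟩
      rw [hgy, hT]
      simp only [hβl, hef, hew, he, mul_zero, mul_one, zero_smul, add_zero]
      rw [← add_smul]
      congr 1; ring
  have O : EU q (frob hF) τ₀ β μ K :=
    { fd := E₀
      small := by rw [hrank]; exact hr5
      herm := herm
      nd := hnd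
      two := two
      tv := htv
      sieg := hsieg
      twist := twist
      μ_norm := hμ
      μ_gen := hμ2
      iso := by
        rintro _ ⟨g, hg, rfl⟩ x y
        rw [htr, htr]
        exact G_isometry (hMG hg) x y
      nospread := by
        by_contra hc
        push Not at hc
        apply hg₀N
        have hg : ∀ (k : L) (v : VV), gmap g₀ (k • v) ∈ L ∙ gmap g₀ v := fun k v =>
          hc _ ⟨g₀, hg₀, rfl⟩ k v
        have hm' : ∀ v : VV, ∃ z, z ∉ L ∙ v := fun v => by
          by_contra hcv
          push Not at hcv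
          have h1 : (⊤ : Submodule L VV) ≤ Submodule.span L (Set.range ![v]) := fun x _ => by
            rw [Matrix.range_cons, Matrix.range_empty, Set.union_empty]; exact hcv x
          have := (Submodule.finrank_mono h1).trans (finrank_range_le_card ![v])
          rw [finrank_top, Fintype.card_fin] at this
          omega
        have hsemi : ∀ k : L, ∃ k' : L, ∀ v, gmap g₀ (k • v) = k' • gmap g₀ v :=
          ExtLin.exists_semilinear hm' hg fun k v => hc _ (inv_mem ⟨g₀, hg₀, rfl⟩ : (gmap g₀)⁻¹ ∈ K) k v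
        choose θ hθ using hsemi
        have hval : ∀ k : L, ρ (θ k) = (g₀ : MM) * ρ k * ((g₀⁻¹ : GL (Fin n) F) : MM) := fun k => by
          refine Matrix.toLin'.injective (LinearMap.ext fun v => ?_)
          have h1 := hθ k (((g₀⁻¹ : GL (Fin n) F) : MM) *ᵥ v)
          rw [gmap_apply, gmap_apply, hsmul, hsmul, Matrix.mulVec_mulVec v (g₀ : MM), Units.mul_inv,
            Matrix.one_mulVec, Matrix.mulVec_mulVec, Matrix.mulVec_mulVec] at h1
          exact h1.symm
        have hsur : Function.Surjective θ := Finite.surjective_of_injective fun a b hab => hinj (by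
          have := congrArg ρ hab
          rw [hval, hval] at this
          exact g₀.isUnit.mul_left_cancel ((g₀⁻¹).isUnit.mul_right_cancel this))
        intro N
        refine ⟨fun hN => ?_, fun hN => ?_⟩
        · obtain ⟨k, rfl⟩ := (hρ N).1 hN
          exact hval k ▸ (hρ _).2 ⟨_, rfl⟩
        · obtain ⟨l, hl⟩ := (hρ _).1 hN
          obtain ⟨a, rfl⟩ := hsur l
          rw [hval] at hl
          exact g₀.isUnit.mul_left_cancel ((g₀⁻¹).isUnit.mul_right_cancel hl) ▸ (hρ _).2 ⟨_, rfl⟩ }
  refine SU_le_of_ctr (hF := hF) (by have := hr.two_le; omega) fun v hv g κ hκ hg => ?_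
  obtain ⟨g', hg', hgy⟩ := tv_all O (w := v) (by rw [htr]; exact hv) hκ
  rw [hmem] at hg'
  convert hg' using 1
  refine gmap.injective ?_
  rw [gmap.apply_symm_apply]
  refine LinearEquiv.ext fun y => ?_
  rw [hgy, gmap_apply, hg, tmat_mulVec, htr]

include hF in
/-- The normaliser of an extension field of unitary type is maximal. -/
theorem ext_unitary_maximal {r : ℕ} (hr : r.Prime) (hodd : Odd r) (hr5 : r ≤ 5) (hn2 : 2 * r ≤ n)
    (hk : 3 * r ≤ n ∨ 5 ≤ r ∨ 3 ≤ q) {A : Subalgebra F MM} (hA : IsFieldSubalgebra r A)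
    (hAa : IsAdjointClosedFor h A) : IsMaximalIn G (subalgebraNormalizer A ⊓ G) := by
  have hn3 : 3 ≤ n := by have := hr.two_le; omega
  haveI : Nonempty (Fin n) := ⟨⟨0, by omega⟩⟩
  refine ⟨lt_of_le_of_ne inf_le_right fun e =>
    CfsgLib.Aschbacher.not_SU_le_subalgebraNormalizer hF hn3 hA hr.one_lt (e.ge.trans inf_le_left),
    fun M hle hMG => ?_⟩
  by_cases hN : M ≤ subalgebraNormalizer A
  · exact Or.inl (le_antisymm (le_inf hN hMG) hle)
  obtain ⟨g₀, hg₀, hg₀N⟩ := SetLike.not_le_iff_exists.1 hN
  letI : Field ↥A := (CfsgLib.Aschbacher.isField_of_fieldSubalgebra hA).toField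
  exact Or.inr (le_antisymm hMG (over_of hF (L := ↥A) hr hodd hr5 hA.finrank_eq hn2 hk A.val
    (fun N => ⟨fun hN => ⟨⟨N, hN⟩, rfl⟩, fun ⟨l, hl⟩ => hl ▸ l.2⟩) Subtype.val_injective
    hAa hle hMG hg₀ hg₀N))

end CfsgLib.MaxSub.ExtUnitary
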